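import Cfsg.Agent.H32.Basic
import Cfsg.Agent.H32.SupersolvableStructure
import Cfsg.Agent.H19.Basic
import Cfsg.Agent.H19.MinimalNormal

set_option autoImplicit false
open Pointwise

namespace Cfsg.Agent.H32

variable {G : Type*} [Group G]

/-- A normal subgroup with trivial intersection and full join with `U` is a complement. -/
theorem isComplement'_of_normal {K U : Subgroup G} (hK : K.Normal) (h1 : K ⊓ U = ⊥)
    (h2 : K ⊔ U = ⊤) : Subgroup.IsComplement' K U :=
  Subgroup.isComplement'_of_disjoint_and_mul_eq_univ (disjoint_iff.mpr h1)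
    (by rw [← Subgroup.normal_mul, h2, Subgroup.coe_top])

/-- In a group with a core-free maximal subgroup `U`, a nontrivial normal subgroup supplements `U`. -/
theorem sup_eq_top_of_corefree {U : Subgroup G} (hU : IsCoatom U) (hcore : U.normalCore = ⊥)
    {N : Subgroup G} (hNn : N.Normal) (hN : N ≠ ⊥) : N ⊔ U = ⊤ :=
  hU.2 _ (right_lt_sup.mpr fun hle =>
    hN (eq_bot_iff.mpr (hcore ▸ Subgroup.normal_le_normalCore.mpr hle)))

/-- The centralizer of a nontrivial normal subgroup meets a core-free maximal subgroup trivially. -/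
theorem centralizer_inf_corefree {U : Subgroup G} (hU : IsCoatom U) (hcore : U.normalCore = ⊥)
    {N : Subgroup G} (hNn : N.Normal) (hN : N ≠ ⊥) :
    Subgroup.centralizer (N : Set G) ⊓ U = ⊥ := by
  have hn : (Subgroup.centralizer (N : Set G) ⊓ U).Normal := by
    rw [← Subgroup.normalizer_eq_top_iff, eq_top_iff, ← sup_eq_top_of_corefree hU hcore hNn hN]
    refine sup_le ?_ ?_
    · intro n hn
      have hfix : ∀ x ∈ Subgroup.centralizer (N : Set G) ⊓ U, n * x * n⁻¹ = x := fun x hx => by
        rw [Subgroup.mem_centralizer_iff.mp hx.1 n hn, mul_inv_cancel_right]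
      rw [Subgroup.mem_normalizer_iff]
      intro x
      refine ⟨fun hx => (hfix x hx).symm ▸ hx, fun hx => ?_⟩
      have := hfix _ hx
      have e : n * x * n⁻¹ = x := mul_left_cancel (mul_right_cancel this)
      rwa [e] at hx
    · exact le_trans (le_inf Subgroup.le_normalizer_of_normal Subgroup.le_normalizer)
        Subgroup.inf_normalizer_le_normalizer_inf
  rw [eq_bot_iff, ← hcore]
  exact (Subgroup.normal_le_normalCore (hN := hn)).mpr inf_le_right

/-- Every nontrivial normal subgroup inside such a centralizer equals it. -/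
theorem eq_centralizer_of_corefree {U : Subgroup G} (hU : IsCoatom U) (hcore : U.normalCore = ⊥)
    {N : Subgroup G} (hNn : N.Normal) (hN : N ≠ ⊥) {K : Subgroup G} (hKn : K.Normal) (hK : K ≠ ⊥)
    (hle : K ≤ Subgroup.centralizer (N : Set G)) : K = Subgroup.centralizer (N : Set G) := by
  refine le_antisymm hle fun c hc => ?_
  obtain ⟨k, hk, u, hu, rfl⟩ := Subgroup.mem_sup_of_normal_left.mp
    ((sup_eq_top_of_corefree hU hcore hKn hK).symm ▸ Subgroup.mem_top c)
  have hu' : u ∈ Subgroup.centralizer (N : Set G) ⊓ U := by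
    refine ⟨?_, hu⟩
    have := mul_mem (inv_mem (hle hk)) hc
    rwa [inv_mul_cancel_left] at this
  rw [centralizer_inf_corefree hU hcore hNn hN, Subgroup.mem_bot] at hu'
  rwa [hu', mul_one]

/-- Two subgroups with trivial intersection with normal `A` and the same join are isomorphic. -/
theorem nonempty_mulEquiv_of_sup_eq {A B D : Subgroup G} (hA : A.Normal) (hB : A ⊓ B = ⊥)
    (hD : A ⊓ D = ⊥) (h : A ⊔ B = A ⊔ D) : Nonempty (B ≃* D) := by
  have hinj : ∀ X : Subgroup G, A ⊓ X = ⊥ →
      Function.Injective ((QuotientGroup.mk' A).comp X.subtype) := by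
    intro X hX
    rw [injective_iff_map_eq_one]
    intro x hx
    have : (x : G) ∈ A ⊓ X := ⟨(QuotientGroup.eq_one_iff _).mp hx, x.2⟩
    rw [hX, Subgroup.mem_bot] at this
    exact Subtype.ext this
  have e : ((QuotientGroup.mk' A).comp B.subtype).range = ((QuotientGroup.mk' A).comp D.subtype).range := by
    rw [MonoidHom.range_comp, MonoidHom.range_comp, Subgroup.range_subtype, Subgroup.range_subtype]
    have h' := congrArg (Subgroup.map (QuotientGroup.mk' A)) h
    rwa [Subgroup.map_sup, Subgroup.map_sup, QuotientGroup.map_mk'_self, bot_sup_eq, bot_sup_eq]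
      at h'
  exact ⟨(MonoidHom.ofInjective (hinj B hB)).trans
    ((MulEquiv.subgroupCongr e).trans (MonoidHom.ofInjective (hinj D hD)).symm)⟩

/-- Core-free maximal subgroups of a finite solvable group are conjugate. -/
theorem corefree_maximal_conj [Finite G] [Group.IsSolvable G] {U V : Subgroup G} (hU : IsCoatom U)
    (hV : IsCoatom V) (hUc : U.normalCore = ⊥) (hVc : V.normalCore = ⊥) :
    ∃ g : G, MulAut.conj g • U = V := by
  have : Nontrivial G := by
    rcases subsingleton_or_nontrivial G with h | h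
    · exact absurd (Subsingleton.elim U ⊤) hU.1
    · exact h
  obtain ⟨M, hMn, hM0, hMmin⟩ := exists_minNormal (G := G)
  obtain ⟨hMc, p, hp, hMp, -⟩ :=
    Cfsg.Agent.H19.minimalNormal_elementary M inferInstance hM0 hMmin
  have : Fact p.Prime := ⟨hp⟩
  have hMC : M = Subgroup.centralizer (M : Set G) :=
    eq_centralizer_of_corefree hU hUc hMn hM0 hMn hM0 (Subgroup.le_centralizer M)
  have hcompl : ∀ W : Subgroup G, IsCoatom W → W.normalCore = ⊥ → Subgroup.IsComplement' M W := by
    intro W hW hWc
    have h1 := centralizer_inf_corefree hW hWc hMn hM0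
    rw [← hMC] at h1
    exact isComplement'_of_normal hMn h1 (sup_eq_top_of_corefree hW hWc hMn hM0)
  by_cases htop : M = ⊤
  · have := hcompl U hU hUc
    have := hcompl V hV hVc
    subst htop
    rw [Subgroup.isComplement'_top_left] at *
    exact ⟨1, by simp [*]⟩
  have : Nontrivial (G ⧸ M) := QuotientGroup.nontrivial_iff.mpr htop
  obtain ⟨Lbar, q, hLn, hL0, -, hq, hLq, -⟩ := Cfsg.Agent.H19.exists_normal_elementary (G := G ⧸ M)
  have : Fact q.Prime := ⟨hq⟩
  let L := Lbar.comap (QuotientGroup.mk' M)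
  have hL : L.Normal := hLn.comap _
  have hML : M ≤ L := QuotientGroup.le_comap_mk' M Lbar
  have hqp : q ≠ p := by
    rintro rfl
    have hLp : IsPGroup q L := hLq.comap_of_ker_isPGroup _ (by rwa [QuotientGroup.ker_mk'])
    have hb : M.subgroupOf L ≠ ⊥ := by
      rw [Ne, Subgroup.subgroupOf_eq_bot, disjoint_iff, inf_eq_left.mpr hML]
      exact hM0
    obtain ⟨z, hzM, hz1, hzc⟩ := exists_central_of_normal_pgroup hLp (M.subgroupOf L) hb
    rcases hMmin (M ⊓ Subgroup.centralizer (L : Set G)) inferInstance inf_le_left with h | h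
    · have hz : (z : G) ∈ M ⊓ Subgroup.centralizer (L : Set G) := ⟨hzM,
        Subgroup.mem_centralizer_iff.mpr fun a ha =>
          congrArg Subtype.val (Subgroup.mem_center_iff.mp hzc ⟨a, ha⟩)⟩
      rw [h, Subgroup.mem_bot] at hz
      exact hz1 (Subtype.ext hz)
    · have hLM : L ≤ M := by
        rw [hMC]
        intro l hl
        rw [Subgroup.mem_centralizer_iff]
        intro m hm
        exact (Subgroup.mem_centralizer_iff.mp ((inf_eq_left.mp h) hm) l hl).symm
      apply hL0
      rw [← Subgroup.map_comap_eq_self_of_surjective (QuotientGroup.mk'_surjective M) Lbar,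
        Subgroup.map_eq_bot_iff, QuotientGroup.ker_mk']
      exact hLM
  have hsyl : ∀ W : Subgroup G, IsCoatom W → W.normalCore = ⊥ →
      ∃ Q : Sylow q L, (Q : Subgroup L) = W.subgroupOf L ∧ (Q : Subgroup L) ≠ ⊥ := by
    intro W hW hWc
    have hc := hcompl W hW hWc
    have hWi : W.relIndex L = Nat.card M := by
      rw [← relIndex_sup_eq, eq_top_iff.mpr
        (show ⊤ ≤ W ⊔ L from le_trans (le_of_eq hc.sup_eq_top.symm)
          (sup_le (hML.trans le_sup_right) le_sup_left)), Subgroup.relIndex_top_right,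
        hc.index_eq_card]
    have hpg : IsPGroup q (W.subgroupOf L) := by
      refine hLq.of_injective (((QuotientGroup.mk' M).comp
        (L.subtype.comp (W.subgroupOf L).subtype)).codRestrict Lbar fun x => x.1.2) ?_
      rw [injective_iff_map_eq_one]
      intro x hx
      have h1 : ((x : L) : G) ∈ M := (QuotientGroup.eq_one_iff _).mp (congrArg Subtype.val hx)
      have h2 : ((x : L) : G) ∈ M ⊓ W := ⟨h1, x.2⟩
      rw [hc.disjoint.eq_bot, Subgroup.mem_bot] at h2
      exact Subtype.ext (Subtype.ext h2)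
    refine ⟨hpg.toSylow ?_, rfl, ?_⟩
    · show ¬ q ∣ W.relIndex L
      obtain ⟨k, hk⟩ := IsPGroup.iff_card.mp hMp
      rw [hWi, hk]
      exact fun h => hqp ((Nat.prime_dvd_prime_iff_eq hq hp).mp (hq.dvd_of_dvd_pow h))
    · intro hb
      have hb' : W.subgroupOf L = ⊥ := hb
      have hcard := card_mul_relIndex (inf_le_right : W ⊓ L ≤ L)
      rw [Subgroup.subgroupOf_eq_bot, disjoint_iff] at hb'
      rw [Subgroup.inf_relIndex_right, hb', Subgroup.card_bot, one_mul, hWi] at hcard
      have : M = L := Subgroup.eq_of_le_of_card_ge hML hcard.ge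
      apply hL0
      rw [← Subgroup.map_comap_eq_self_of_surjective (QuotientGroup.mk'_surjective M) Lbar]
      change L.map _ = ⊥
      rw [← this, QuotientGroup.map_mk'_self]
  obtain ⟨QU, hQU, -⟩ := hsyl U hU hUc
  obtain ⟨QV, hQV, hQV0⟩ := hsyl V hV hVc
  obtain ⟨x, hx⟩ := MulAction.exists_smul_eq L QU QV
  refine ⟨(x : G), ?_⟩
  have hx' : MulAut.conj x • (U.subgroupOf L) = V.subgroupOf L := by
    rw [← hQU, ← hQV, ← hx]; rfl
  have hx'' : MulAut.conj (x : G) • (U ⊓ L) = V ⊓ L := by
    have := congrArg (Subgroup.map L.subtype) hx'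
    rwa [Cfsg.Agent.H19.map_conj_smul, Subgroup.subgroupOf_map_subtype,
      Subgroup.subgroupOf_map_subtype] at this
  let Q := V ⊓ L
  have hNQ : Subgroup.normalizer (Q : Set G) = V := by
    have hVle : V ≤ Subgroup.normalizer (Q : Set G) :=
      le_trans (le_inf Subgroup.le_normalizer Subgroup.le_normalizer_of_normal)
        Subgroup.inf_normalizer_le_normalizer_inf
    rcases eq_or_lt_of_le hVle with h | h
    · exact h.symm
    · exfalso
      have hn : Q.Normal := Subgroup.normalizer_eq_top_iff.mp (hV.2 _ h)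
      have hQb : Q ≤ ⊥ := hVc ▸ Subgroup.normal_le_normalCore.mpr inf_le_left
      apply hQV0
      rw [hQV, Subgroup.subgroupOf_eq_bot, disjoint_iff]
      exact le_bot_iff.mp hQb
  have hle : MulAut.conj (x : G) • U ≤ V := by
    rw [← hNQ]
    rintro _ ⟨u, hu, rfl⟩
    have huN : u ∈ Subgroup.normalizer ((U ⊓ L : Subgroup G) : Set G) :=
      Subgroup.inf_normalizer_le_normalizer_inf
        ⟨Subgroup.le_normalizer hu, Subgroup.le_normalizer_of_normal hu⟩
    rw [Subgroup.mem_normalizer_iff_map_conj_eq] at huN ⊢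
    change MulAut.conj (MulAut.conj (x : G) u) • Q = Q
    change MulAut.conj u • (U ⊓ L) = U ⊓ L at huN
    show MulAut.conj ((x : G) * u * (x : G)⁻¹) • (V ⊓ L) = V ⊓ L
    rw [← hx'', Cfsg.Agent.H19.conj_mul_smul, map_inv, inv_smul_smul, Cfsg.Agent.H19.conj_mul_smul,
      huN]
  refine Subgroup.eq_of_le_of_card_ge hle ?_
  rw [Cfsg.Agent.H19.card_conj_smul]
  have e1 := (hcompl U hU hUc).card_mul_card
  have e2 := (hcompl V hV hVc).card_mul_card
  exact le_of_eq (Nat.eq_of_mul_eq_mul_left Nat.card_pos (e2.trans e1.symm))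

end Cfsg.Agent.H32
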