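import Cfsg.Agent.H26.CoverDefect
import Cfsg.Agent.H41.PrimeNormal
import Cfsg.Agent.H43.DetChar
import Cfsg.Agent.H25.IndRep
import Cfsg.Agent.H56.Clifford
import Cfsg.Agent.H40.InducedBlocks
import Cfsg.Agent.S0867

/-!
# Blocks over an invariant character of a normal subgroup of order prime to `p`

`N` has order prime to `p` and `θ` is invariant.  If some normal `K ≥ N` with `K / N` a `p`-group
contains the centralisers of its Sylow `p`-subgroups, the characters over `θ` form one block of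
full defect.
-/

set_option autoImplicit false

namespace Cfsg.Agent.H32

open Cfsg

universe u

section Over

variable {G : Type u} [Group G] [Fintype G] (N : Subgroup G) [hN : N.Normal] [Fintype N]

/-- `χ` lies over the invariant `θ` exactly when its restriction is a multiple of `θ`. -/
theorem exists_restrict_eq_smul {θ : IrrCharacter N}
    (hinv : ∀ g, H41.twistIrr N θ g = θ) {χ : IrrCharacter G}
    (h : classInner (fun n : N => (χ : G → ℂ) n) (θ : N → ℂ) ≠ 0) :
    ∃ m : ℕ, m ≠ 0 ∧ (fun n : N => (χ : G → ℂ) n) = fun n => (m : ℂ) * (θ : N → ℂ) n := by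
  classical
  obtain ⟨m, hm, hdec⟩ := H26.exists_nat_coeffs
    (H26.isCharacter_comp (H26.irr_isCharacter χ) N.subtype)
  have hm' : ∀ φ : IrrCharacter N, classInner (fun n : N => (χ : G → ℂ) n) (φ : N → ℂ) = (m φ : ℂ) := hm
  have h0 : ∀ φ, φ ≠ θ → (m φ : ℂ) = 0 := by
    intro φ hφ
    by_contra hne
    obtain ⟨g, hg⟩ := H41.exists_twistIrr_eq N χ h (by rwa [hm'])
    exact hφ (hg.symm.trans (hinv g))
  refine ⟨m θ, fun e => h (by rw [hm', e, Nat.cast_zero]), funext fun n => ?_⟩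
  have := congrFun hdec n
  simp only [Finset.sum_apply, Pi.smul_apply, smul_eq_mul] at this
  rw [show (χ : G → ℂ) n = _ from this, Finset.sum_eq_single θ
    (fun φ _ hφ => by rw [h0 φ hφ, zero_mul]) (fun hθ => absurd (Finset.mem_univ _) hθ)]

omit hN in
/-- If a multiple of `θ` is a nonnegative combination of characters, each of them is one too. -/
theorem classInner_ne_zero_of_sum {ι : Type*} [Fintype ι] {m : ι → ℕ} {F : ι → N → ℂ}
    (hF : ∀ i, IsCharacter N (F i)) (c : ℂ) {θ : IrrCharacter N}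
    (hsum : ∀ n : N, ∑ i, (m i : ℂ) * F i n = c * (θ : N → ℂ) n) {j : ι} (hj : m j ≠ 0)
    {η : IrrCharacter N} (hη : classInner (F j) (η : N → ℂ) ≠ 0) : η = θ := by
  classical
  by_contra hne
  have h0 : classInner (∑ i, (m i : ℂ) • F i) (η : N → ℂ) = 0 := by
    rw [show (∑ i, (m i : ℂ) • F i) = c • (θ : N → ℂ) from funext fun n => by
        simpa using hsum n,
      H26.classInner_smul_left, H26.classInner_irr, if_neg (Ne.symm hne), mul_zero]
  rw [H26.classInner_sum_left] at h0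
  simp only [H26.classInner_smul_left, H43.classInner_eq_mult (hF _)] at h0
  have h1 : ∑ i, m i * H43.mult (F i) η = 0 := by exact_mod_cast h0
  rcases Nat.mul_eq_zero.1 (Finset.sum_eq_zero_iff.1 h1 j (Finset.mem_univ _)) with h2 | h2
  · exact hj h2
  · exact hη (by rw [H43.classInner_eq_mult (hF j), h2, Nat.cast_zero])

/-- An invariant character of a normal subgroup of order prime to `p` extends to an overgroup
with `p`-power index. -/
theorem exists_extension {p : ℕ} [hp : Fact p.Prime] (hn : ¬ p ∣ Nat.card N) {θ : IrrCharacter N}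
    (hinv : ∀ g, H41.twistIrr N θ g = θ) (T : Subgroup G) (hNT : N ≤ T)
    (hidx : ∃ k, N.relIndex T = p ^ k) :
    ∃ ψ : IrrCharacter T, (∀ n : N, (ψ : T → ℂ) ⟨n, hNT n.2⟩ = (θ : N → ℂ) n) ∧
      ¬ p ∣ charDegree (ψ : T → ℂ) := by
  classical
  let e := Subgroup.subgroupOfEquivOfLe hNT
  let θ' : N.subgroupOf T → ℂ := fun x => (θ : N → ℂ) (e x)
  have hθ' : IsIrrCharacter (N.subgroupOf T) θ' := H56.isIrrCharacter_comp_equiv θ.2 e
  have hinv' : ∀ (t : T) (x : N.subgroupOf T),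
      θ' ⟨t * x * t⁻¹, (inferInstance : (N.subgroupOf T).Normal).conj_mem (x : T) x.2 t⟩ = θ' x := by
    intro t x
    have := congrArg (fun φ : IrrCharacter N => (φ : N → ℂ) (e x)) (hinv (t : G))
    simp only [H41.twistIrr_apply] at this
    exact (congrArg (θ : N → ℂ) (Subtype.ext rfl)).trans this
  set d := charDegree θ' with hd
  have hd1 : θ' 1 = (d : ℂ) := H43.irr_charDegree_spec (⟨θ', hθ'⟩ : IrrCharacter _)
  obtain ⟨k, hk⟩ := hidx
  have hcard : Nat.card (N.subgroupOf T) = Nat.card N := Nat.card_congr e.toEquiv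
  have hnd : ¬ p ∣ d := fun h => hn (hcard ▸ h.trans (H43.irr_charDegree_dvd
    (⟨θ', hθ'⟩ : IrrCharacter _)))
  have hcop : Nat.Coprime (N.subgroupOf T).index (detOrder θ' * d) := by
    rw [show (N.subgroupOf T).index = p ^ k from hk]
    refine Nat.Coprime.pow_left k ((Nat.Prime.coprime_iff_not_dvd hp.out).2 fun h => ?_)
    rcases (Nat.Prime.dvd_mul hp.out).1 h with h | h
    · exact hn (hcard ▸ h.trans (H43.detOrder_dvd_card (H26.isCharacter_of_irr hθ')))
    · exact hnd h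
  obtain ⟨ψ, ⟨hψ, hres, -⟩, -⟩ := S0867.result (N.subgroupOf T) θ' hθ' hinv' d hd1 hcop
  refine ⟨⟨ψ, hψ⟩, fun n => ?_, ?_⟩
  · exact (hres (e.symm n)).trans (congrArg (θ : N → ℂ) (e.apply_symm_apply n))
  · have h1 : ψ 1 = θ' 1 := hres 1
    rwa [show charDegree ψ = d by rw [hd, charDegree, charDegree, h1]]

end Over

variable {G : Type u} [Group G] [Fintype G] {p : ℕ} [hp : Fact p.Prime] {M : Ideal AlgInt}
  [M.IsMaximal] (N : Subgroup G) [N.Normal] [Fintype N] {θ : IrrCharacter N}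

/-- Some character over `θ` has degree prime to `p`. -/
theorem exists_not_dvd_over (hn : ¬ p ∣ Nat.card N) (hinv : ∀ g, H41.twistIrr N θ g = θ) :
    ∃ χ : IrrCharacter G, classInner (fun n : N => (χ : G → ℂ) n) (θ : N → ℂ) ≠ 0 ∧
      ¬ p ∣ charDegree (χ : G → ℂ) := by
  classical
  obtain ⟨S⟩ : Nonempty (Sylow p G) := inferInstance
  set T := N ⊔ (S : Subgroup G)
  have hNT : N ≤ T := le_sup_left
  have hidx : ∃ k, N.relIndex T = p ^ k := by
    have h1 : N.relIndex T = N.relIndex (S : Subgroup G) := Subgroup.relIndex_sup_left _ _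
    obtain ⟨k, hk⟩ := IsPGroup.iff_card.1 S.2
    obtain ⟨j, -, hj⟩ := (Nat.dvd_prime_pow hp.out).1
      (hk ▸ Subgroup.relIndex_dvd_card N (S : Subgroup G))
    exact ⟨j, h1.trans hj⟩
  obtain ⟨ψ, hψ, hψd⟩ := exists_extension N hn hinv T hNT hidx
  let : Fintype T := Fintype.ofFinite _
  have hind := H25.isCharacter_indFun T (H26.irr_isCharacter ψ)
  have hTi : ¬ p ∣ T.index := fun h => S.not_dvd_index (h.trans
    (Subgroup.index_dvd_of_le (le_sup_right : (S : Subgroup G) ≤ T)))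
  obtain ⟨m, -, hdec⟩ := H26.exists_nat_coeffs hind
  have hval : ∀ g, ∑ χ : IrrCharacter G, (m χ : ℂ) * (χ : G → ℂ) g = indFun T (ψ : T → ℂ) g :=
    fun g => by conv_rhs => rw [hdec]; simp [Finset.sum_apply]
  have hres : ∀ n : N, indFun T (ψ : T → ℂ) n = (T.index : ℂ) * (θ : N → ℂ) n := by
    intro n
    rw [H25.indFun_apply]
    have hx : ∀ x : G, extendByZero T (ψ : T → ℂ) (x⁻¹ * n * x) = (θ : N → ℂ) n := by
      intro x
      have hmem : x⁻¹ * (n : G) * x ∈ N := by
        simpa using ‹N.Normal›.conj_mem _ n.2 x⁻¹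
      rw [H25.extendByZero_of_mem _ _ (hNT hmem), hψ ⟨_, hmem⟩]
      have := congrArg (fun φ : IrrCharacter N => (φ : N → ℂ) n) (hinv x⁻¹)
      simp only [H41.twistIrr_apply] at this
      exact (congrArg (θ : N → ℂ) (Subtype.ext (by simp))).trans this
    rw [Finset.sum_congr rfl fun x _ => hx x, Finset.sum_const, nsmul_eq_mul, Finset.card_univ,
      ← Nat.card_eq_fintype_card, ← T.card_mul_index, Nat.cast_mul]
    field_simp
  have hdeg : ∑ χ : IrrCharacter G, m χ * charDegree (χ : G → ℂ) =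
      T.index * charDegree (ψ : T → ℂ) := by
    have := hval 1
    simp only [H25.indFun_one, H43.irr_charDegree_spec] at this
    exact_mod_cast this
  obtain ⟨χ, hm, hd⟩ : ∃ χ, m χ ≠ 0 ∧ ¬ p ∣ charDegree (χ : G → ℂ) := by
    by_contra hno
    have : p ∣ ∑ χ : IrrCharacter G, m χ * charDegree (χ : G → ℂ) :=
      Finset.dvd_sum fun χ _ => by
        by_cases h : m χ = 0
        · simp [h]
        · exact dvd_mul_of_dvd_right (by_contra fun hd => hno ⟨χ, h, hd⟩) _
    rcases (Nat.Prime.dvd_mul hp.out).1 (hdeg ▸ this) with h | h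
    · exact hTi h
    · exact hψd h
  obtain ⟨η, hη⟩ := H41.exists_constituent N χ
  have := classInner_ne_zero_of_sum N (F := fun φ : IrrCharacter G => fun n : N => (φ : G → ℂ) n)
    (fun φ => H43.isCharacter_restr N φ) _ (fun n => (hval n).trans (hres n)) hm hη
  exact ⟨χ, this ▸ hη, hd⟩

/-- The characters over `θ` lie in one block. -/
theorem sameBlock_of_over (hM : IsPModular p M) (hn : ¬ p ∣ Nat.card N)
    (hinv : ∀ g, H41.twistIrr N θ g = θ) (K : Subgroup G) [K.Normal] (hNK : N ≤ K)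
    (hidx : ∃ k, N.relIndex K = p ^ k)
    (hC : ∀ Q : Subgroup G, Q ≤ K → IsPGroup p Q →
      Nat.card Q = p ^ (Nat.card K).factorization p → Subgroup.centralizer (Q : Set G) ≤ K)
    {χ χ' : IrrCharacter G} (hχ : classInner (fun n : N => (χ : G → ℂ) n) (θ : N → ℂ) ≠ 0)
    (hχ' : classInner (fun n : N => (χ' : G → ℂ) n) (θ : N → ℂ) ≠ 0) :
    SameBlock M (χ : G → ℂ) (χ' : G → ℂ) := by
  classical
  let : Fintype K := Fintype.ofFinite _
  let N' := N.subgroupOf K
  let : Fintype N' := Fintype.ofFinite _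
  let e := Subgroup.subgroupOfEquivOfLe hNK
  let θ' : IrrCharacter N' := ⟨fun x => (θ : N → ℂ) (e x), H56.isIrrCharacter_comp_equiv θ.2 e⟩
  have hn' : ¬ p ∣ Nat.card N' := by rwa [Nat.card_congr e.toEquiv]
  obtain ⟨φ₀, hφ₀, hφ₀d⟩ := exists_extension N hn hinv K hNK hidx
  -- the block of `K` over `θ`
  set b := blockOf M (φ₀ : K → ℂ) with hbdef
  have hb : IsPBlock M b := ⟨φ₀, rfl⟩
  have hφ₀b : φ₀ ∈ b := H41.mem_blockOf_self φ₀
  have hover₀ : classInner (fun x : N' => (φ₀ : K → ℂ) x) (θ' : N' → ℂ) ≠ 0 := by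
    rw [show (fun x : N' => (φ₀ : K → ℂ) x) = (θ' : N' → ℂ) from
      funext fun x => (hφ₀ (e x)), H26.classInner_irr, if_pos rfl]
    exact one_ne_zero
  have hreg : ∀ g : K, ¬ p ∣ orderOf g → g ∈ N' := fun g hg =>
    H41.mem_of_regular_of_index N' (by obtain ⟨k, hk⟩ := hidx; exact ⟨k, hk⟩) hg
  have hb' : IsPBlock M ({θ'} : Set (IrrCharacter N')) :=
    ⟨θ', (H41.blockOf_eq_singleton_of_not_dvd N' hM hn' θ').symm⟩
  have hcov : ∀ ξ : IrrCharacter G, classInner (fun n : N => (ξ : G → ℂ) n) (θ : N → ℂ) ≠ 0 →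
      ∃ φ ∈ b, classInner (fun x : K => (ξ : G → ℂ) x) (φ : K → ℂ) ≠ 0 := by
    intro ξ hξ
    obtain ⟨c, -, hc⟩ := exists_restrict_eq_smul N hinv hξ
    obtain ⟨φ, hφ⟩ := H41.exists_constituent K ξ
    refine ⟨φ, ?_, hφ⟩
    obtain ⟨η, hη⟩ := H41.exists_constituent N' φ
    obtain ⟨m, hm, hdec⟩ := H26.exists_nat_coeffs (H43.isCharacter_restr K ξ)
    have hsum : ∀ x : N', ∑ ψ : IrrCharacter K, (m ψ : ℂ) * (ψ : K → ℂ) x =
        (c : ℂ) * (θ' : N' → ℂ) x := by
      intro x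
      have h1 := congrFun hdec (x : K)
      simp only [Finset.sum_apply, Pi.smul_apply, smul_eq_mul] at h1
      exact h1.symm.trans (congrFun hc (e x))
    have hmφ : m φ ≠ 0 := fun h0 => hφ (by rw [hm, h0, Nat.cast_zero])
    have hηθ := classInner_ne_zero_of_sum N'
      (F := fun ψ : IrrCharacter K => fun x : N' => (ψ : K → ℂ) x)
      (fun ψ => H43.isCharacter_restr N' ψ) _ hsum hmφ hη
    subst hηθ
    exact H41.mem_block_of_regular_in N' hM hreg hb' hb hφ₀b
      (Set.mem_singleton _) (Set.mem_singleton _) hover₀ hη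
  -- a defect group of that block is a Sylow subgroup of `K`
  obtain ⟨g, hg⟩ := H40.exists_isDefectClass hM hb
  obtain ⟨P, hP⟩ := H40.exists_isSylowIn p (Subgroup.centralizer ({g} : Set K))
  have hPd : IsDefectGroup p M b P := H40.isDefectGroup_iff.2 ⟨g, hg, hP⟩
  have hdef : blockDefect p b = (Nat.card K).factorization p := by
    have h0 : (charDegree (φ₀ : K → ℂ)).factorization p = 0 :=
      Nat.factorization_eq_zero_of_not_dvd hφ₀d
    have : sInf ((fun φ : IrrCharacter K => (charDegree (φ : K → ℂ)).factorization p) '' b) = 0 :=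
      Nat.sInf_eq_zero.2 (Or.inl ⟨φ₀, hφ₀b, h0⟩)
    rw [blockDefect, this, Nat.sub_zero]
  let Q : Subgroup G := P.map K.subtype
  have hQK : Q ≤ K := Subgroup.map_subtype_le _
  have hQ : IsDefectGroup p M b (Q.subgroupOf K) := by
    rwa [show Q.subgroupOf K = P from
      Subgroup.comap_map_eq_self_of_injective K.subtype_injective P]
  have hQp : IsPGroup p Q := (H40.isPGroup_of_isDefectGroup hPd).map _
  have hQc : Nat.card Q = p ^ (Nat.card K).factorization p := by
    rw [Subgroup.card_map_of_injective K.subtype_injective, H40.card_defectGroup hM hb hPd, hdef]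
  obtain ⟨φ, hφb, hφ⟩ := hcov χ hχ
  obtain ⟨φ', hφ'b, hφ'⟩ := hcov χ' hχ'
  intro x
  by_cases hx : x ∈ K
  · rw [H41.centralChar_eq_inducedCentralChar K χ hφ ⟨x, hx⟩,
      H41.centralChar_eq_inducedCentralChar K χ' hφ' ⟨x, hx⟩]
    exact H41.inducedCentralChar_congr K hb hφb hφ'b x
  · have hzero : ∀ (ξ : IrrCharacter G) (φ : IrrCharacter K), φ ∈ b →
        classInner (fun y : K => (ξ : G → ℂ) y) (φ : K → ℂ) ≠ 0 →
        MemLocalIdeal M (centralChar (ξ : G → ℂ) x) := by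
      intro ξ φ h1 h2
      by_contra hne
      obtain ⟨y, hy, hyQ⟩ := H26.exists_conj_centralizes_of_covers hM hb hQp hQK hQ
        ⟨φ, h1, h2⟩ hne
      obtain ⟨z, hz⟩ := isConj_iff.1 hy.symm
      exact hx (hz ▸ ‹K.Normal›.conj_mem y (hC Q hQK hQp hQc hyQ) z)
    obtain ⟨ha, ea⟩ := H41.memLocalIdeal_iff_res.1 (hzero χ φ hφb hφ)
    obtain ⟨hc, ec⟩ := H41.memLocalIdeal_iff_res.1 (hzero χ' φ' hφ'b hφ')
    refine H41.memLocalIdeal_iff_res.2 ⟨sub_mem ha hc, ?_⟩
    rw [show (⟨_, sub_mem ha hc⟩ : H41.localRing M) = ⟨_, ha⟩ - ⟨_, hc⟩ from rfl, map_sub, ea, ec,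
      sub_zero]

/-- The block of the characters over `θ`, and its defect groups. -/
theorem exists_block_over (hM : IsPModular p M) (hn : ¬ p ∣ Nat.card N)
    (hinv : ∀ g, H41.twistIrr N θ g = θ) (K : Subgroup G) [K.Normal] (hNK : N ≤ K)
    (hidx : ∃ k, N.relIndex K = p ^ k)
    (hC : ∀ Q : Subgroup G, Q ≤ K → IsPGroup p Q →
      Nat.card Q = p ^ (Nat.card K).factorization p → Subgroup.centralizer (Q : Set G) ≤ K) :
    ∃ B : Set (IrrCharacter G), IsPBlock M B ∧
      (∀ χ : IrrCharacter G, χ ∈ B ↔ classInner (fun n : N => (χ : G → ℂ) n) (θ : N → ℂ) ≠ 0) ∧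
      (∀ P : Sylow p G, IsDefectGroup p M B (P : Subgroup G)) ∧
      ∀ D : Subgroup G, IsDefectGroup p M B D → ∃ P : Sylow p G, D = (P : Subgroup G) := by
  classical
  obtain ⟨χ₀, hχ₀, hd₀⟩ := exists_not_dvd_over N hn hinv
  have hB : IsPBlock M (blockOf M (χ₀ : G → ℂ)) := ⟨χ₀, rfl⟩
  have hmem : χ₀ ∈ blockOf M (χ₀ : G → ℂ) := H41.mem_blockOf_self χ₀
  have hfull : ∀ D : Subgroup G, IsDefectGroup p M (blockOf M (χ₀ : G → ℂ)) D →
      ∃ P : Sylow p G, D = (P : Subgroup G) := by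
    intro D hD
    have hc := H40.card_defectGroup hM hB hD
    rw [blockDefect, show sInf ((fun φ : IrrCharacter G =>
        (charDegree (φ : G → ℂ)).factorization p) '' blockOf M (χ₀ : G → ℂ)) = 0 from
      Nat.sInf_eq_zero.2 (Or.inl ⟨χ₀, hmem, Nat.factorization_eq_zero_of_not_dvd hd₀⟩),
      Nat.sub_zero] at hc
    exact ⟨Sylow.ofCard D hc, (Sylow.coe_ofCard D hc).symm⟩
  refine ⟨_, hB, fun χ => ⟨fun hχ => ?_,
    fun hχ => sameBlock_of_over N hM hn hinv K hNK hidx hC hχ₀ hχ⟩, fun P => ?_, hfull⟩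
  · obtain ⟨φ, hφ⟩ := H41.exists_constituent N χ
    obtain ⟨g, hg⟩ := H41.exists_twistIrr_eq_of_sameBlock N hM hn hχ hχ₀ hφ
    have : φ = θ := by
      have h := congrArg (fun η => H41.twistIrr N η g⁻¹) hg
      simp only [H41.twistIrr_inv_twistIrr] at h
      rw [h, hinv]
    exact this ▸ hφ
  · obtain ⟨g, hg⟩ := H40.exists_isDefectClass hM hB
    obtain ⟨D, hD⟩ := H40.exists_isSylowIn p (Subgroup.centralizer ({g} : Set G))
    have hDd : IsDefectGroup p M (blockOf M (χ₀ : G → ℂ)) D :=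
      H40.isDefectGroup_iff.2 ⟨g, hg, hD⟩
    obtain ⟨S, rfl⟩ := hfull D hDd
    obtain ⟨x, hx⟩ := MulAction.exists_smul_eq G S P
    have := H40.isDefectGroup_rconj hDd x⁻¹
    convert this using 1
    ext y
    rw [← hx, Sylow.coe_subgroup_smul, H23.mem_rconj, H19.mem_conj_smul]
    simp [mul_assoc]

end Cfsg.Agent.H32
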