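import Cfsg.Agent.H31.Defect.BlockData
import Cfsg.Agent.H41.RegularInner
import Cfsg.Agent.H32.PrincipalGalois

/-!
The principal block of a group whose Sylow subgroup has prime order, read off from the block
data.
-/

set_option autoImplicit false

namespace Cfsg.Agent.H32

open Cfsg
open Cfsg.Agent.H31.Defect
open scoped ComplexConjugate

variable {G : Type*} [Group G] [Fintype G] {p : ℕ} [hp : Fact p.Prime] {M : Ideal AlgInt}
variable {z : G} {V H : Subgroup G}

theorem eq_of_singular (S : Parts p z V H) {f : G → ℂ} (hf : IsClassFunction G f) {c : ℂ}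
    (hc : ∀ i : ZMod p, i ≠ 0 → ∀ v : V, f (z ^ i.val * (v : G)) = c) {g : G}
    (hg : p ∣ orderOf g) : f g = c := by
  obtain ⟨i, v, hi, hconj⟩ := S.exists_conj hg
  obtain ⟨y, hy⟩ := isConj_iff.1 hconj
  rw [← hc i hi v, ← hy, hf g y]

/-- A character constant and non-zero on the singular elements sees the principal block. -/
theorem exists_mem_principalBlock_of_const (S : Parts p z V H) (hM : IsPModular p M)
    (T : Finset (IrrCharacter G)) (h1 : H26.oneIrr G ∉ T) {c : ℂ} (hc : c ≠ 0)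
    (hval : ∀ i : ZMod p, i ≠ 0 → ∀ v : V, ∑ χ ∈ T, χ.1 (z ^ i.val * (v : G)) = c) :
    ∃ χ ∈ T, χ ∈ principalBlock M G := by
  classical
  haveI := hM.2.1
  by_contra hno
  push Not at hno
  have key : ∀ χ ∈ T,
      ∑ x ∈ Finset.univ.filter (fun x : G => p ∣ orderOf x), χ.1 x = 0 := by
    intro χ hχ
    have hne : ¬ SameBlock M (χ : G → ℂ) ((H26.oneIrr G : IrrCharacter G) : G → ℂ) := by
      intro h
      apply hno χ hχ
      have h' := H41.sameBlock_symm h
      show SameBlock M (fun _ : G => (1 : ℂ)) (χ : G → ℂ)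
      exact h'
    have h := H41.sum_regular_mul_conj_eq_zero hM hne
    simp only [H26.oneIrr_val, map_one, mul_one] at h
    have h2 : ∑ x : G, χ.1 x = 0 := by
      have := H26.classInner_irr χ (H26.oneIrr G)
      rw [if_neg (fun e : χ = H26.oneIrr G => h1 (e ▸ hχ)), classInner, mul_eq_zero] at this
      rcases this with h0 | h0
      · simp at h0
      · simpa [H26.oneIrr_val] using h0
    rw [← Finset.sum_filter_add_sum_filter_not Finset.univ (fun x : G => p ∣ orderOf x)] at h2
    simpa [h] using h2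
  have h3 : ∑ x ∈ Finset.univ.filter (fun x : G => p ∣ orderOf x), ∑ χ ∈ T, χ.1 x = 0 := by
    rw [Finset.sum_comm]; exact Finset.sum_eq_zero key
  rw [Finset.sum_congr rfl fun x hx => eq_of_singular S (f := fun g => ∑ χ ∈ T, χ.1 g)
    (fun a b => Finset.sum_congr rfl fun χ _ => H26.isClassFunction_of_isCharacter
      (H26.irr_isCharacter χ) a b) hval (Finset.mem_filter.1 hx).2,
    Finset.sum_const, nsmul_eq_mul, mul_eq_zero] at h3
  rcases h3 with h0 | h0
  · rw [Nat.cast_eq_zero, Finset.card_eq_zero, Finset.filter_eq_empty_iff] at h0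
    exact h0 (Finset.mem_univ z) (S.ord ▸ dvd_rfl)
  · exact hc h0

/-- Members of the principal block do not average to zero over the first coset. -/
theorem vsum_ne_zero (S : Parts p z V H) (hM : IsPModular p M) {χ : IrrCharacter G}
    (hχ : χ ∈ principalBlock M G) : vsum z V χ.1 (1 : ZMod p) ≠ 0 := by
  classical
  haveI := hM.2.1
  intro h0
  have hchi : χ.1 1 ≠ 0 := H26.irr_one_ne_zero χ
  set w : V → ℕ := fun v => Nat.card (Subgroup.centralizer ({z ^ (1 : ZMod p).val * (v : G)} : Set G))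
  have hw : ∀ v, p ∣ w v := fun v => by
    have hle : Subgroup.zpowers z ≤
        Subgroup.centralizer ({z ^ (1 : ZMod p).val * (v : G)} : Set G) := by
      rw [Subgroup.zpowers_le, Subgroup.mem_centralizer_singleton_iff, ZMod.val_one, pow_one]
      exact ((Commute.refl z).mul_right (S.commute v)).eq
    have := Subgroup.card_dvd_of_le hle
    rwa [Nat.card_zpowers, S.ord] at this
  have hpG : p ∣ Nat.card G := S.ord ▸ orderOf_dvd_natCard z
  set n := Nat.card G / p
  have hn : p * n = Nat.card G := Nat.mul_div_cancel' hpG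
  have hnp : ¬ p ∣ n := fun hd => S.sq (by rw [← hn, pow_two]; exact mul_dvd_mul_left p hd)
  have hid : ∀ (f : G → ℂ) (v : V), ((w v / p : ℕ) : ℂ) *
      centralChar f (z ^ (1 : ZMod p).val * (v : G)) =
      (n : ℂ) * f (z ^ (1 : ZMod p).val * (v : G)) / f 1 := by
    intro f v
    have e := (Subgroup.centralizer ({z ^ (1 : ZMod p).val * (v : G)} : Set G)).card_mul_index
    have e2 : (w v / p) * (Subgroup.centralizer
        ({z ^ (1 : ZMod p).val * (v : G)} : Set G)).index = n := by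
      refine Nat.eq_of_mul_eq_mul_left hp.out.pos ?_
      rw [← mul_assoc, Nat.mul_div_cancel' (hw v), hn]
      exact e
    rw [centralChar, ← mul_div_assoc, ← mul_assoc, ← Nat.cast_mul, e2]
  have hsame : SameBlock M (fun _ : G => (1 : ℂ)) (χ : G → ℂ) := hχ
  have hmem : MemLocalIdeal M (∑ v : V, ((w v / p : ℕ) : ℂ) *
      (centralChar (fun _ : G => (1 : ℂ)) (z ^ (1 : ZMod p).val * (v : G)) -
        centralChar (χ : G → ℂ) (z ^ (1 : ZMod p).val * (v : G)))) :=
    H40.memLocalIdeal_sum _ _ fun v _ => H40.memLocalIdeal_mul_left (natCast_mem _ _) (hsame _)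
  simp only [mul_sub, hid, Finset.sum_sub_distrib, ← Finset.sum_div, ← Finset.mul_sum] at hmem
  rw [← vsum_eq, h0, mul_zero, zero_div, sub_zero, Finset.sum_const, nsmul_eq_mul, mul_one, div_one,
    Finset.card_univ, ← Nat.card_eq_fintype_card, ← Nat.cast_mul] at hmem
  have := H40.dvd_of_memLocalIdeal_natCast hM hmem
  exact (hp.out.dvd_mul.1 this).elim hnp S.ndvd_V

theorem card_normalizer_eq (S : Parts p z V H) :
    Nat.card (Subgroup.normalizer ((Subgroup.zpowers z : Subgroup G) : Set G)) =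
      (H30.conjExps p z).card * Nat.card (Subgroup.centralizer ({z} : Set G)) := by
  classical
  let f : Subgroup.normalizer ((Subgroup.zpowers z : Subgroup G) : Set G) → ZMod p :=
    fun g => (S.exists_autExp g.2).choose
  have hf : ∀ g : Subgroup.normalizer ((Subgroup.zpowers z : Subgroup G) : Set G), (g : G) * z * (g : G)⁻¹ = z ^ (f g).val := fun g => (S.exists_autExp g.2).choose_spec
  rw [S.card_centralizer, Nat.card_eq_fintype_card, ← Finset.card_univ,
    Finset.card_eq_sum_card_fiberwise (f := f) (t := H30.conjExps p z)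
      (fun g _ => S.mem_conjExps.2 ⟨g, hf g⟩)]
  refine Finset.sum_const_nat fun a ha => ?_
  rw [← S.card_fiber ha, ← Fintype.card_subtype, ← Nat.card_eq_fintype_card]
  refine Nat.card_congr
    { toFun := fun g => ⟨g.1.1, by rw [hf g.1, g.2]⟩
      invFun := fun g => ⟨⟨g.1, mem_normalizer_of_conj_eq S.ord g.2⟩,
        (zpow_val_eq_iff S.ord).1 ((hf ⟨g.1, mem_normalizer_of_conj_eq S.ord g.2⟩).symm.trans g.2)⟩
      left_inv := fun g => rfl
      right_inv := fun g => rfl }

/-- The structure of the principal block. -/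
theorem sylow_prime_principal (hM : IsPModular p M) (P : Sylow p G) (hP : Nat.card P = p) (e : ℕ)
    (he : (Subgroup.centralizer ((P : Subgroup G) : Set G)).relIndex
      (Subgroup.normalizer ((P : Subgroup G) : Set G)) = e) :
    ∃ X Y : Set (IrrCharacter G), principalBlock M G = X ∪ Y ∧ Disjoint X Y ∧ Nat.card X = e ∧
      Nat.card Y = (p - 1) / e ∧ ∃ (εX : IrrCharacter G → ℤ) (ε : ℤ),
      (∀ χ ∈ X, (εX χ = 1 ∨ εX χ = -1) ∧ (charDegree (χ : G → ℂ) : ℤ) ≡ εX χ [ZMOD p] ∧
        ∀ x : G, x ∈ (P : Subgroup G) → x ≠ 1 →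
          ∀ y : G, y ∈ Subgroup.centralizer ((P : Subgroup G) : Set G) → ¬ p ∣ orderOf y →
            (χ : G → ℂ) (x * y) = (εX χ : ℂ)) ∧
      (ε = 1 ∨ ε = -1) ∧ (∀ θ ∈ Y, (charDegree (θ : G → ℂ) : ℤ) ≡ ε * (e : ℤ) [ZMOD p]) ∧
      (∀ θ ∈ Y, ∀ θ' ∈ Y, ∀ g : G, ¬ p ∣ orderOf g → (θ : G → ℂ) g = (θ' : G → ℂ) g) ∧
      ∀ θ ∈ Y, ∀ g : G, ¬ p ∣ orderOf g →
        (ε : ℂ) * (θ : G → ℂ) g = ∑ᶠ χ ∈ X, (εX χ : ℂ) * (χ : G → ℂ) g := by
  classical
  haveI := hM.2.1
  -- a generator
  haveI : IsCyclic (P : Subgroup G) := isCyclic_of_prime_card hP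
  obtain ⟨z₀, hz₀⟩ := IsCyclic.exists_generator (α := (P : Subgroup G))
  set z : G := (z₀ : G) with hzdef
  have hPz : (P : Subgroup G) = Subgroup.zpowers z := by
    refine le_antisymm (fun x hx => ?_) (Subgroup.zpowers_le.2 z₀.2)
    obtain ⟨k, hk⟩ := Subgroup.mem_zpowers_iff.1 (hz₀ ⟨x, hx⟩)
    exact Subgroup.mem_zpowers_iff.2 ⟨k, congrArg Subtype.val hk⟩
  have hz : orderOf z = p := by
    rw [← Nat.card_zpowers, ← hPz]; exact hP
  have hsq : ¬ p ^ 2 ∣ Nat.card G := by
    intro hd
    have h1 := P.card_eq_multiplicity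
    rw [hP] at h1
    have h2 := (hp.out.pow_dvd_iff_le_factorization Nat.card_pos.ne').1 hd
    have : (Nat.card G).factorization p = 1 :=
      Nat.pow_right_injective hp.out.two_le (by show p ^ _ = p ^ 1; rw [← h1, pow_one])
    omega
  obtain ⟨V, H, S⟩ := exists_parts hz hsq
  obtain ⟨D⟩ := S.nonempty_blockData
  have hC : Subgroup.centralizer ((P : Subgroup G) : Set G) = Subgroup.centralizer ({z} : Set G) := by
    rw [hPz, Subgroup.zpowers_eq_closure, Subgroup.centralizer_closure]
  have hCN : Subgroup.centralizer ({z} : Set G) ≤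
      Subgroup.normalizer ((Subgroup.zpowers z : Subgroup G) : Set G) := fun g hg =>
    mem_normalizer_of_conj_eq hz (s := 1) (by
      rw [Subgroup.mem_centralizer_singleton_iff.1 hg, pow_one, mul_inv_cancel_right])
  have hE : (H30.conjExps p z).card = e := by
    have h1 := card_normalizer_eq S
    have h2 := (Subgroup.centralizer ({z} : Set G)).subgroupOf
      (Subgroup.normalizer ((Subgroup.zpowers z : Subgroup G) : Set G)) |>.index_mul_card
    rw [Nat.card_congr (Subgroup.subgroupOfEquivOfLe hCN).toEquiv, ← Subgroup.relIndex] at h2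
    rw [← h2] at h1
    rw [← he, hC, hPz]
    exact (Nat.eq_of_mul_eq_mul_right Nat.card_pos h1).symm
  have he0 : 0 < e := hE ▸ S.card_exp_pos
  have ht : D.t = (p - 1) / e := by
    rw [← D.et, hE, Nat.mul_div_cancel_left _ he0]
  set δ : IrrCharacter G → ℤ := fun χ => D.b χ - D.m χ 0 with hδ
  have hδ1 : ∀ χ, δ χ = 0 ∨ δ χ = 1 ∨ δ χ = -1 := fun χ => by
    have := abs_le.1 (D.abs_le χ); simp only [δ]; omega
  have hεne : (D.ε : ℂ) ≠ 0 := by rcases D.eps with h | h <;> simp [h]
  have hcardX : (Finset.univ.filter fun χ => δ χ ≠ 0).card = e := by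
    have h := D.sq_sum
    rw [hE] at h
    have h2 : ∀ χ, (D.b χ - D.m χ 0) ^ 2 = if δ χ ≠ 0 then (1 : ℤ) else 0 := fun χ => by
      show δ χ ^ 2 = _
      rcases hδ1 χ with h | h | h <;> simp [h]
    rw [Finset.sum_congr rfl fun χ _ => h2 χ, Finset.sum_boole] at h
    exact_mod_cast h
  have hone : δ (H26.oneIrr G) = -1 := by
    simp [δ, D.b_one, D.m_one]
  have hregeq : ∀ θ ∈ D.K, ∀ θ' ∈ D.K, ∀ g : G, ¬ p ∣ orderOf g → θ.1 g = θ'.1 g := by
    intro θ hθ θ' hθ' g hg
    have h1 := D.regular g hg θ hθ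
    have h2 := D.regular g hg θ' hθ'
    exact mul_left_cancel₀ hεne (by linear_combination h1 - h2)
  -- the two families lie in the principal block
  have hXsub : ∀ χ, δ χ ≠ 0 → χ ∈ principalBlock M G := by
    intro χ hχ
    by_cases h1 : χ = H26.oneIrr G
    · subst h1
      show SameBlock M (fun _ : G => (1 : ℂ)) _
      exact H41.sameBlock_refl _
    · obtain ⟨ψ, hψ, hmem⟩ := exists_mem_principalBlock_of_const S hM {χ}
        (by simpa using Ne.symm h1) (c := ((-δ χ : ℤ) : ℂ)) (by simpa using hχ)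
        (fun i hi v => by rw [Finset.sum_singleton]; exact D.val χ hχ i hi v)
      rwa [Finset.mem_singleton.1 hψ] at hmem
  have hKsub : ∀ θ ∈ D.K, θ ∈ principalBlock M G := by
    have hsum : ∀ i : ZMod p, i ≠ 0 → ∀ v : V,
        ∑ θ ∈ D.K, θ.1 (z ^ i.val * (v : G)) = -(D.ε : ℂ) := by
      intro i hi v
      have hfs : ∑ θ ∈ D.K, ∑ k ∈ fib D.κ θ, (ZMod.stdAddChar (k * i) : ℂ) = -1 := by
        rw [← sum_std_ne_zero hi, ← Finset.sum_fiberwise_of_maps_to (g := D.κ) (t := D.K)
          (fun k hk => D.κ_mem k (Finset.ne_of_mem_erase hk))]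
        refine Finset.sum_congr rfl fun θ _ => Finset.sum_congr ?_ fun _ _ => rfl
        ext k; simp [mem_fib]
      rw [Finset.sum_congr rfl fun θ hθ => D.valK θ hθ i hi v, ← Finset.mul_sum, hfs, mul_neg,
        mul_one]
    obtain ⟨θ₀, hθ₀, hmem⟩ := exists_mem_principalBlock_of_const S hM D.K D.one_not
      (neg_ne_zero.2 hεne) hsum
    intro θ hθ
    have hsame : SameBlock M (θ₀ : G → ℂ) (θ : G → ℂ) := by
      by_contra hne
      have h := H41.sum_regular_mul_conj_eq_zero hM hne
      rw [Finset.sum_congr rfl fun x hx => by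
        rw [← hregeq θ₀ hθ₀ θ hθ x (Finset.mem_filter.1 hx).2]] at h
      simp only [Complex.mul_conj] at h
      rw [← Complex.ofReal_sum, Complex.ofReal_eq_zero] at h
      have := (Finset.sum_eq_zero_iff_of_nonneg fun x _ => Complex.normSq_nonneg _).1 h 1
        (Finset.mem_filter.2 ⟨Finset.mem_univ _, by rw [orderOf_one]; exact hp.out.not_dvd_one⟩)
      exact H26.irr_one_ne_zero θ₀ (Complex.normSq_eq_zero.1 this)
    exact H41.sameBlock_trans hmem hsame
  refine ⟨{χ | δ χ ≠ 0}, ↑D.K, ?_, ?_, ?_, ?_, fun χ => -δ χ, D.ε, ?_, D.eps, ?_, ?_, ?_⟩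
  · ext χ
    refine ⟨fun hχ => ?_, fun hχ => ?_⟩
    · by_contra hn
      simp only [Set.mem_union, Set.mem_setOf_eq, Finset.mem_coe, not_or, not_not] at hn
      exact vsum_ne_zero S hM hχ (D.valZero χ hn.2 hn.1 1 one_ne_zero)
    · rcases hχ with h | h
      · exact hXsub χ h
      · exact hKsub χ (Finset.mem_coe.1 h)
  · rw [Set.disjoint_left]
    intro χ hχ hK
    exact hχ (by simp only [δ, D.bK χ (Finset.mem_coe.1 hK), sub_self])
  · rw [Nat.card_coe_set_eq, Set.ncard_eq_toFinset_card', Set.toFinset_setOf, hcardX]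
  · rw [Nat.card_coe_set_eq, Set.ncard_coe_finset, D.cardK, ht]
  · intro χ hχ
    refine ⟨?_, ?_, ?_⟩
    · rcases hδ1 χ with h | h | h
      · exact absurd h hχ
      · exact Or.inr (by simp only [h])
      · exact Or.inl (by simp only [h, neg_neg])
    · refine ((Int.modEq_iff_dvd).2 ?_).symm
      simpa using D.cong χ hχ
    · intro x hx hx1 y hy hyreg
      rw [hPz] at hx
      obtain ⟨i, hi⟩ := (orderOf_pos_iff.1 (hz ▸ hp.out.pos : 0 < orderOf z)
        ).powers_eq_zpowers.symm.le hx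
      simp only at hi
      obtain ⟨j, v, hv, hyv⟩ := S.cover y (hC ▸ hy)
      have hj0 : (j : ZMod p) = 0 := by
        by_contra hne
        apply hyreg
        rw [hyv, ← pow_val_natCast hz j]
        exact (S.orderOf_dvd_iff _ ⟨v, hv⟩).2 hne
      have hy' : y = v := by
        rw [hyv, ← pow_val_natCast hz j, hj0, ZMod.val_zero, pow_zero, one_mul]
      have hi0 : (i : ZMod p) ≠ 0 := fun h => hx1 (by
        rw [← hi, ← pow_val_natCast hz i, h, ZMod.val_zero, pow_zero])
      have := D.val χ hχ (i : ZMod p) hi0 ⟨v, hv⟩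
      rw [pow_val_natCast hz] at this
      rw [← hi, hy']
      exact this
  · intro θ hθ
    rw [D.degK θ (Finset.mem_coe.1 hθ)]
    exact ((Int.modEq_iff_dvd).2 (by simpa [hE] using D.congK)).symm
  · intro θ hθ θ' hθ' g hg
    exact hregeq θ (Finset.mem_coe.1 hθ) θ' (Finset.mem_coe.1 hθ') g hg
  · intro θ hθ g hg
    rw [finsum_mem_eq_sum_of_inter_support_eq (s := {χ | δ χ ≠ 0}) (t := Finset.univ) _ (by
      ext χ
      simp only [Set.mem_inter_iff, Set.mem_setOf_eq, Function.mem_support, Finset.coe_univ,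
        Set.mem_univ, true_and, and_iff_right_iff_imp]
      intro h h0
      simp [h0] at h)]
    rw [← sub_eq_zero]
    rw [← D.regular g hg θ (Finset.mem_coe.1 hθ), sub_eq_add_neg, add_comm, ← Finset.sum_neg_distrib]
    congr 1
    exact Finset.sum_congr rfl fun χ _ => by simp [δ]; ring

end Cfsg.Agent.H32
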