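import Cfsg.Prelude.Def_SolvableStructure
import Cfsg.Agent.H32.Basic
import Cfsg.Agent.H19.Schmidt
import Cfsg.Agent.H51.Basic
import Cfsg.Agent.H55.FittingHall

set_option autoImplicit false

namespace Cfsg.Agent.H32

open scoped commutatorElement

variable {G : Type*} [Group G] [Finite G]

/-- A finite group with all Sylow subgroups normal is nilpotent. -/
theorem isNilpotent_of_sylow_normal (h : ∀ (p : ℕ) (_ : Fact p.Prime) (P : Sylow p G),
    (P : Subgroup G).Normal) : Group.IsNilpotent G :=
  ((Group.isNilpotent_of_finite_tfae (G := G)).out 0 3).mpr fun p hp P => h p hp P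

/-- Two subgroups of coprime order inside a nilpotent subgroup commute elementwise. -/
theorem commute_of_le_nilpotent {H A B : Subgroup G} (hH : Group.IsNilpotent H) (hA : A ≤ H)
    (hB : B ≤ H) (hco : (Nat.card A).Coprime (Nat.card B)) {a b : G} (ha : a ∈ A) (hb : b ∈ B) :
    a * b = b * a := by
  have h1 : orderOf (⟨a, hA ha⟩ : H) ∣ Nat.card A := by
    rw [← Subgroup.orderOf_coe]
    exact Subgroup.orderOf_dvd_natCard A ha
  have h2 : orderOf (⟨b, hB hb⟩ : H) ∣ Nat.card B := by
    rw [← Subgroup.orderOf_coe]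
    exact Subgroup.orderOf_dvd_natCard B hb
  exact congrArg Subtype.val (Cfsg.Agent.H55.commute_of_coprime_orderOf hH
    ((hco.coprime_dvd_left h1).coprime_dvd_right h2)).eq

/-- Structure of minimal non-nilpotent groups. -/
theorem minimalNonNilpotent_structure (hG : Cfsg.IsMinimalNonNilpotent G) :
    ∃ p q : ℕ, p.Prime ∧ q.Prime ∧ p ≠ q ∧ ∃ (P : Sylow p G) (Q : Sylow q G), IsCyclic P ∧
      (Q : Subgroup G).Normal ∧ (P : Subgroup G) ⊔ Q = ⊤ := by
  obtain ⟨hnn, hmin⟩ := hG
  have : Nontrivial G := by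
    rcases subsingleton_or_nontrivial G with h | h
    · exact (hnn inferInstance).elim
    · exact h
  have hsol : Group.IsSolvable G := Cfsg.Agent.H19.solvable_of_maximal_nilpotent fun M hM => hmin M hM.1
  obtain ⟨M, hM, hcM⟩ := (eq_top_or_exists_le_coatom (commutator G)).resolve_left
    (Group.IsSolvable.commutator_lt_top_of_nontrivial (G := G)).ne
  have hMn : M.Normal := by
    constructor
    intro m hm g
    have h1 : ⁅g, m⁆ ∈ M := hcM (Subgroup.commutator_mem_commutator (Subgroup.mem_top g) (Subgroup.mem_top m))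
    have := M.mul_mem h1 hm
    rwa [commutatorElement_def, inv_mul_cancel_right] at this
  have : Nontrivial (G ⧸ M) := QuotientGroup.nontrivial_iff.mpr hM.1
  obtain ⟨p, hp, hpM⟩ : ∃ p : ℕ, p.Prime ∧ M.index = p := by
    let p := (Nat.card (G ⧸ M)).minFac
    have hp : p.Prime := Nat.minFac_prime Finite.one_lt_card.ne'
    have : Fact p.Prime := ⟨hp⟩
    obtain ⟨z, hz⟩ := exists_prime_orderOf_dvd_card' p (Nat.minFac_dvd (Nat.card (G ⧸ M)))
    have hlt : M < (Subgroup.zpowers z).comap (QuotientGroup.mk' M) := by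
      refine lt_of_le_of_ne (QuotientGroup.le_comap_mk' M _) fun e => ?_
      have h2 := congrArg (Subgroup.map (QuotientGroup.mk' M)) e
      rw [QuotientGroup.map_mk'_self, Subgroup.map_comap_eq_self_of_surjective
        (QuotientGroup.mk'_surjective M), eq_comm, Subgroup.zpowers_eq_bot] at h2
      rw [h2, orderOf_one] at hz
      exact hp.ne_one hz.symm
    have h3 := congrArg (Subgroup.map (QuotientGroup.mk' M)) (hM.2 _ hlt)
    rw [Subgroup.map_comap_eq_self_of_surjective (QuotientGroup.mk'_surjective M),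
      Subgroup.map_top_of_surjective _ (QuotientGroup.mk'_surjective M)] at h3
    refine ⟨p, hp, ?_⟩
    show Nat.card (G ⧸ M) = p
    rw [← Subgroup.card_top, ← h3, Nat.card_zpowers, hz]
  have hp' : Fact p.Prime := ⟨hp⟩
  have hMnil := hmin M hM.1
  -- the other Sylow subgroups are normal
  have hqN : ∀ (q : ℕ) (_ : Fact q.Prime), q ≠ p → ∀ Q : Sylow q G,
      (Q : Subgroup G) ≤ M ∧ (Q : Subgroup G).Normal := by
    intro q hq hqp Q
    have hle : (Q : Subgroup G) ≤ M := by
      rw [← Subgroup.relIndex_eq_one]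
      obtain ⟨k, hk⟩ := IsPGroup.iff_card.mp Q.isPGroup'
      have h1 : M.relIndex Q ∣ q ^ k := hk ▸ Subgroup.relIndex_dvd_card M Q
      have h2 : M.relIndex Q ∣ p := (Subgroup.relIndex_dvd_index_of_normal M Q).trans hpM.dvd
      exact Nat.eq_one_of_dvd_coprimes
        (Nat.Coprime.pow_left k ((Nat.coprime_primes hq.out hp).mpr hqp)) h1 h2
    refine ⟨hle, ?_⟩
    have hh : ∀ (r : ℕ) (_ : Fact r.Prime) (R : Sylow r M), (R : Subgroup M).Normal :=
      ((Group.isNilpotent_of_finite_tfae (G := M)).out 0 3).mp hMnil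
    have : (Q.subtype hle : Subgroup M).Normal := hh q hq (Q.subtype hle)
    have : (Q.subtype hle : Subgroup M).Characteristic := (Q.subtype hle).characteristic_of_normal this
    have h : ((Q.subtype hle : Subgroup M).map M.subtype).Normal :=
      ConjAct.normal_of_characteristic_of_normal
    rwa [Sylow.coe_subtype, Subgroup.map_subgroupOf_eq_of_le hle] at h
  obtain ⟨P⟩ := (inferInstance : Nonempty (Sylow p G))
  have hPn : ¬ (P : Subgroup G).Normal := fun h => hnn (isNilpotent_of_sylow_normal fun q hq R => by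
    by_cases hqp : q = p
    · subst hqp
      obtain ⟨g, hg⟩ := MulAction.exists_smul_eq G P R
      rw [Sylow.smul_eq_of_normal (h := h)] at hg
      exact hg ▸ h
    · exact (hqN q hq hqp R).2)
  -- some `q` with `P Q = G`
  obtain ⟨q, hq, Q, hqp, hPQ⟩ : ∃ (q : ℕ) (_ : Fact q.Prime) (Q : Sylow q G),
      q ≠ p ∧ (P : Subgroup G) ⊔ Q = ⊤ := by
    by_contra hc
    push Not at hc
    apply hPn
    rw [← Subgroup.normalizer_eq_top_iff]
    refine Cfsg.Agent.H51.eq_top_of_forall_sylow_le _ fun q hq _ => ?_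
    have : Fact q.Prime := ⟨hq⟩
    by_cases hqp : q = p
    · subst hqp; exact ⟨P, Subgroup.le_normalizer⟩
    obtain ⟨Q⟩ := (inferInstance : Nonempty (Sylow q G))
    refine ⟨Q, fun y hy => ?_⟩
    have hco := IsPGroup.coprime_card_of_ne p q (Ne.symm hqp) (P : Subgroup G) (Q : Subgroup G)
      P.isPGroup' Q.isPGroup'
    have hcomm : ∀ x ∈ (P : Subgroup G), x * y = y * x := fun x hx =>
      commute_of_le_nilpotent (hmin _ (hc q this Q hqp)) le_sup_left le_sup_right hco hx hy
    exact Subgroup.centralizer_le_normalizer _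
      (Subgroup.mem_centralizer_iff.mpr hcomm)
  have hQn := (hqN q hq hqp Q).2
  have hQM := (hqN q hq hqp Q).1
  have hco := IsPGroup.coprime_card_of_ne p q (Ne.symm hqp) (P : Subgroup G) (Q : Subgroup G)
    P.isPGroup' Q.isPGroup'
  refine ⟨p, q, hp, hq.out, Ne.symm hqp, P, Q, ?_, hQn, hPQ⟩
  -- an element of `P` outside `M` generates `P`
  obtain ⟨x, hxP, hxM⟩ : ∃ x ∈ (P : Subgroup G), x ∉ M := by
    by_contra hc
    push Not at hc
    exact P.not_dvd_index (hpM.symm.dvd.trans (Subgroup.index_dvd_of_le hc))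
  have hX : Subgroup.zpowers x ≤ (P : Subgroup G) := Subgroup.zpowers_le.mpr hxP
  have htop : Subgroup.zpowers x ⊔ (Q : Subgroup G) = ⊤ := by
    by_contra hne
    apply hPn
    have hcx : ∀ y ∈ (Q : Subgroup G), x * y = y * x := fun y hy =>
      commute_of_le_nilpotent (hmin _ hne) le_sup_left le_sup_right
        (hco.coprime_dvd_left (Subgroup.card_dvd_of_le hX)) (Subgroup.mem_zpowers x) hy
    let C : Subgroup G := Subgroup.centralizer ((Q : Subgroup G) : Set G)
    have hPC : (P : Subgroup G) ≤ C := by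
      have hMC : (P : Subgroup G) ⊓ M ≤ C := fun y hy => Subgroup.mem_centralizer_iff.mpr fun z hz =>
        (commute_of_le_nilpotent hMnil inf_le_right hQM
          (hco.coprime_dvd_left (Subgroup.card_dvd_of_le inf_le_left)) hy hz).symm
      have hxC : x ∈ C := Subgroup.mem_centralizer_iff.mpr fun z hz => (hcx z hz).symm
      have h1 : M.relIndex P ∣ p := (Subgroup.relIndex_dvd_index_of_normal M P).trans hpM.dvd
      have h2 : C.relIndex P ∣ M.relIndex P := by
        rw [← Subgroup.inf_relIndex_right M P, ← Subgroup.inf_relIndex_right C P]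
        exact Subgroup.relIndex_dvd_of_le_left _
          (le_inf (le_trans (le_of_eq (inf_comm M (P : Subgroup G))) hMC) inf_le_right)
      rcases hp.eq_one_or_self_of_dvd _ (h2.trans h1) with h | h
      · exact Subgroup.relIndex_eq_one.mp h
      · exfalso
        have h3 : M.relIndex P ∣ p := h1
        have hle2 : (M ⊓ (P : Subgroup G)).relIndex (C ⊓ P) * (C ⊓ (P : Subgroup G)).relIndex P =
            (M ⊓ (P : Subgroup G)).relIndex P :=
          Subgroup.relIndex_mul_relIndex _ _ _
            (le_inf (le_trans (le_of_eq (inf_comm M (P : Subgroup G))) hMC) inf_le_right) inf_le_right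
        rw [Subgroup.inf_relIndex_right, Subgroup.inf_relIndex_right, h] at hle2
        have h4 : (M ⊓ (P : Subgroup G)).relIndex (C ⊓ P) = 1 := by
          have hd : (M ⊓ (P : Subgroup G)).relIndex (C ⊓ P) * p ∣ 1 * p := by
            rw [hle2, one_mul]; exact h3
          exact Nat.dvd_one.mp ((Nat.mul_dvd_mul_iff_right hp.pos).mp hd)
        exact hxM ((Subgroup.relIndex_eq_one.mp h4) ⟨hxC, hxP⟩).1
    rw [← Subgroup.normalizer_eq_top_iff, eq_top_iff, ← hPQ]
    refine sup_le Subgroup.le_normalizer fun y hy => ?_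
    exact Subgroup.centralizer_le_normalizer _ (Subgroup.mem_centralizer_iff.mpr fun z hz =>
      (Subgroup.mem_centralizer_iff.mp (hPC hz) y hy).symm)
  have hPX : (P : Subgroup G) = Subgroup.zpowers x := by
    refine le_antisymm (fun y hy => ?_) hX
    obtain ⟨a, ha, b, hb, rfl⟩ := Subgroup.mem_sup_of_normal_right.mp (htop.symm ▸ Subgroup.mem_top y)
    have hb' : b ∈ (P : Subgroup G) ⊓ Q := by
      refine ⟨?_, hb⟩
      have := mul_mem (inv_mem (hX ha)) hy
      rwa [inv_mul_cancel_left] at this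
    rw [(Subgroup.disjoint_of_coprime_natCard hco).eq_bot, Subgroup.mem_bot] at hb'
    rwa [hb', mul_one]
  exact (Subgroup.isCyclic_iff_exists_zpowers_eq_top _).mpr ⟨x, hPX.symm⟩

end Cfsg.Agent.H32
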