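import Mathlib

/-!
Numerical bounds for `n = 1 + Q + ⋯ + Q ^ (d - 1)` with `Q = q ^ f` a prime power.
-/

set_option autoImplicit false

namespace Cfsg.Agent.H32.OrbitBound

theorem sq_le_four_pow (k : ℕ) : (k + 1) ^ 2 ≤ 4 ^ k := by
  rw [show (4 : ℕ) = 2 ^ 2 by norm_num, ← pow_mul, mul_comm, pow_mul]
  exact Nat.pow_le_pow_left (Nat.lt_two_pow_self) 2

theorem mul_sq_le_pow {B f : ℕ} (hB : 4 ≤ B) (hf : 1 ≤ f) : B * f ^ 2 ≤ B ^ f := by
  obtain ⟨k, rfl⟩ := Nat.exists_eq_add_of_le hf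
  calc B * (1 + k) ^ 2 ≤ B * 4 ^ k :=
        Nat.mul_le_mul_left B (by rw [add_comm]; exact sq_le_four_pow k)
    _ ≤ B * B ^ k := Nat.mul_le_mul_left B (Nat.pow_le_pow_left hB k)
    _ = B ^ (1 + k) := by rw [add_comm, pow_succ']

theorem bound_seven (d : ℕ) (hd : 7 ≤ d) : d ^ 2 ≤ 2 ^ (d - 1) := by
  induction d, hd using Nat.le_induction with
  | base => norm_num
  | succ k hk ih =>
      rw [show k + 1 - 1 = (k - 1) + 1 by omega, pow_succ 2 (k - 1)]
      nlinarith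

theorem bound_three (f : ℕ) (hf : 4 ≤ f) : 9 * f ^ 2 ≤ 4 ^ f := by
  induction f, hf using Nat.le_induction with
  | base => norm_num
  | succ k hk ih => rw [pow_succ 4]; nlinarith

theorem pow_lt_sum {Q d : ℕ} (hd : 2 ≤ d) : Q ^ (d - 1) < ∑ i ∈ Finset.range d, Q ^ i := by
  obtain ⟨k, rfl⟩ := Nat.exists_eq_add_of_le hd
  rw [show 2 + k - 1 = k + 1 by omega, show 2 + k = k + 1 + 1 by omega,
    Finset.sum_range_succ, Finset.sum_range_succ']
  simp

/-- Comparing `n = 1 + Q + ⋯ + Q ^ (d-1)` with `(d f) ^ 2`, for `Q = q ^ f`. -/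
theorem bound {q f d : ℕ} (hq : q.Prime) (hd : d.Prime) (hd3 : 3 ≤ d) (hf : 1 ≤ f)
    (hn : IsPrimePow (∑ i ∈ Finset.range d, (q ^ f) ^ i)) :
    (d * f - 1) ^ 2 < ∑ i ∈ Finset.range d, (q ^ f) ^ i ∧
      ((d * f) ^ 2 < ∑ i ∈ Finset.range d, (q ^ f) ^ i ∨
        (∑ i ∈ Finset.range d, (q ^ f) ^ i).Prime) := by
  have hlt := pow_lt_sum (Q := q ^ f) (by omega : 2 ≤ d)
  suffices (d * f) ^ 2 ≤ (q ^ f) ^ (d - 1) ∨ (q = 2 ∧ d = 3 ∧ f ≤ 3) ∨ (q = 2 ∧ d = 5 ∧ f = 1) by
    rcases this with h | ⟨rfl, rfl, hf3⟩ | ⟨rfl, rfl, rfl⟩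
    · exact ⟨lt_of_le_of_lt (le_trans (Nat.pow_le_pow_left (Nat.sub_le _ 1) 2) h) hlt,
        Or.inl (lt_of_le_of_lt h hlt)⟩
    · interval_cases f
      · norm_num [Finset.sum_range_succ]
      · exfalso
        norm_num [Finset.sum_range_succ] at hn
        rw [isPrimePow_nat_iff] at hn
        obtain ⟨r, k, hr, hk, h21⟩ := hn
        have hdvd : r ∣ 21 := h21 ▸ dvd_pow_self r (by omega)
        have h3 : 3 ∣ r ^ k := h21.symm ▸ (by norm_num : 3 ∣ 21)
        have h7 : 7 ∣ r ^ k := h21.symm ▸ (by norm_num : 7 ∣ 21)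
        have e3 := (Nat.prime_dvd_prime_iff_eq Nat.prime_three hr).1
          (Nat.prime_three.dvd_of_dvd_pow h3)
        have e7 := (Nat.prime_dvd_prime_iff_eq (by norm_num) hr).1
          ((show Nat.Prime 7 by norm_num).dvd_of_dvd_pow h7)
        omega
      · norm_num [Finset.sum_range_succ]
    · norm_num [Finset.sum_range_succ]
  have hq2 := hq.two_le
  rw [← pow_mul, mul_comm f, pow_mul, mul_pow]
  have key : ∀ {B : ℕ}, 4 ≤ B → B ≤ q ^ (d - 1) → d ^ 2 ≤ B →
      d ^ 2 * f ^ 2 ≤ (q ^ (d - 1)) ^ f := fun {B} h4 hB hdB =>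
    le_trans (Nat.mul_le_mul_right _ hdB)
      (le_trans (mul_sq_le_pow h4 hf) (Nat.pow_le_pow_left hB f))
  by_cases h7 : 7 ≤ d
  · exact Or.inl (key (B := d ^ 2) (by nlinarith) (le_trans (bound_seven d h7)
      (Nat.pow_le_pow_left hq2 _)) le_rfl)
  · interval_cases d
    · by_cases hq3 : q = 2
      · subst hq3
        by_cases hf4 : 4 ≤ f
        · exact Or.inl (by simpa using bound_three f hf4)
        · exact Or.inr (Or.inl ⟨rfl, rfl, by omega⟩)
      · exact Or.inl (key (B := 9) (by norm_num)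
          (le_trans (by norm_num) (Nat.pow_le_pow_left (show 3 ≤ q by omega) _)) (by norm_num))
    · exact absurd hd (by norm_num)
    · by_cases hq3 : q = 2
      · subst hq3
        by_cases hf1 : f = 1
        · exact Or.inr (Or.inr ⟨rfl, rfl, hf1⟩)
        · left
          obtain ⟨k, rfl⟩ := Nat.exists_eq_add_of_le (show 2 ≤ f by omega)
          calc 5 ^ 2 * (2 + k) ^ 2 ≤ 5 ^ 2 * 4 ^ (k + 1) :=
                Nat.mul_le_mul_left _ (by
                  rw [show 2 + k = k + 1 + 1 by omega]; exact sq_le_four_pow (k + 1))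
            _ ≤ 2 ^ 6 * 4 ^ (k + 1) * 4 ^ k :=
                le_trans (Nat.mul_le_mul_right _ (by norm_num))
                  (Nat.le_mul_of_pos_right _ (by positivity))
            _ = (2 ^ (5 - 1)) ^ (2 + k) := by
              rw [show (4 : ℕ) = 2 ^ 2 by norm_num, ← pow_mul, ← pow_mul, ← pow_mul, ← pow_add,
                ← pow_add]
              congr 1
              omega
      · exact Or.inl (key (B := 81) (by norm_num)
          (le_trans (by norm_num) (Nat.pow_le_pow_left (show 3 ≤ q by omega) _)) (by norm_num))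
    · exact absurd hd (by norm_num)

end Cfsg.Agent.H32.OrbitBound
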