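import Mathlib

/-!
Simple permutation groups containing a regular cyclic subgroup of prime power order `p ^ a`:
functions constant on suborbits are invariant under many multipliers, and a group of prime degree
with a small suborbit consists of affine maps.
-/

set_option autoImplicit false

namespace Cfsg.Agent.H32.OrbitPerm

open Finset

variable {G : Type*} [Group G] {n : ℕ}

/-- `S` is a relation on `ZMod n` invariant under translations and the action. -/
def IsInv (φ : G →* Equiv.Perm (ZMod n)) (S : Set (ZMod n)) : Prop :=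
  ∀ g x y, (φ g y - φ g x ∈ S ↔ y - x ∈ S)

/-- A function of differences which is invariant under the action. -/
def IsInvFun {R : Type*} (φ : G →* Equiv.Perm (ZMod n)) (c : ZMod n → R) : Prop :=
  ∀ g x y, c (φ g y - φ g x) = c (y - x)

variable {φ : G →* Equiv.Perm (ZMod n)}

theorem isInv_of_imp {S : Set (ZMod n)} (h : ∀ g x y, y - x ∈ S → φ g y - φ g x ∈ S) :
    IsInv φ S := by
  intro g x y
  refine ⟨fun hy => ?_, h g x y⟩
  simpa [← Equiv.Perm.mul_apply, ← map_mul] using h g⁻¹ _ _ hy

/-- The suborbit of `a`. -/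
def suborbit (φ : G →* Equiv.Perm (ZMod n)) (a : ZMod n) : Set (ZMod n) :=
  {b | ∃ g, φ g 0 = 0 ∧ φ g a = b}

theorem mem_suborbit_self (a : ZMod n) : a ∈ suborbit φ a := ⟨1, by simp, by simp⟩

variable (htr : ∀ t : ZMod n, ∃ g, ∀ x, φ g x = x + t)

include htr in
theorem isInv_suborbit (a : ZMod n) : IsInv φ (suborbit φ a) := by
  refine isInv_of_imp fun g x y hy => ?_
  obtain ⟨h, h0, ha⟩ := hy
  obtain ⟨s, hs⟩ := htr x
  obtain ⟨t, ht⟩ := htr (-φ g x)
  refine ⟨t * g * s * h, ?_, ?_⟩
  · simp [Equiv.Perm.mul_apply, hs, h0, ht]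
  · simp [Equiv.Perm.mul_apply, hs, ha, ht, sub_eq_add_neg]

include htr in
theorem suborbit_subset {S : Set (ZMod n)} (hS : IsInv φ S) {a : ZMod n} (ha : a ∈ S) :
    suborbit φ a ⊆ S := by
  rintro b ⟨g, h0, rfl⟩
  simpa [h0] using (hS g 0 a).2 (by simpa using ha)

theorem suborbit_eq_of_mem {a b : ZMod n} (h : b ∈ suborbit φ a) :
    suborbit φ b = suborbit φ a := by
  obtain ⟨g, h0, rfl⟩ := h
  have hinv : φ g⁻¹ 0 = 0 := by
    rw [map_inv]
    exact (φ g).symm_apply_eq.2 h0.symm
  ext c
  constructor
  · rintro ⟨k, hk0, rfl⟩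
    exact ⟨k * g, by simp [Equiv.Perm.mul_apply, h0, hk0], by simp [Equiv.Perm.mul_apply]⟩
  · rintro ⟨k, hk0, rfl⟩
    refine ⟨k * g⁻¹, by rw [map_mul, Equiv.Perm.mul_apply, hinv, hk0], ?_⟩
    rw [map_mul, Equiv.Perm.mul_apply, map_inv]
    simp

theorem invFun_const_suborbit {R : Type*} {c : ZMod n → R} (hc : IsInvFun φ c) {a b : ZMod n}
    (hb : b ∈ suborbit φ a) : c b = c a := by
  obtain ⟨g, h0, rfl⟩ := hb
  simpa [h0] using hc g 0 a

theorem isInv_closure {S : Set (ZMod n)} (hS : IsInv φ S) :
    IsInv φ ((AddSubgroup.closure S : AddSubgroup (ZMod n)) : Set (ZMod n)) := by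
  refine isInv_of_imp fun g x y hy => ?_
  suffices ∀ h, h ∈ AddSubgroup.closure S → ∀ x, φ g (x + h) - φ g x ∈ AddSubgroup.closure S by
    simpa using this _ hy x
  intro h hh
  induction hh using AddSubgroup.closure_induction with
  | mem s hs => exact fun x => AddSubgroup.subset_closure ((hS g x (x + s)).2 (by simpa using hs))
  | zero => exact fun x => by simp
  | add u v _ _ ihu ihv =>
      intro x
      have := add_mem (ihv (x + u)) (ihu x)
      rwa [sub_add_sub_cancel, add_assoc] at this
  | neg u _ ihu =>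
      intro x
      have := neg_mem (ihu (x + -u))
      rwa [neg_sub, neg_add_cancel_right] at this

/-- The stabiliser of a set of differences is an invariant relation. -/
theorem isInv_stab {S : Set (ZMod n)} (hS : IsInv φ S) :
    IsInv φ {h : ZMod n | ∀ s, s ∈ S ↔ s + h ∈ S} := by
  refine isInv_of_imp fun g x y hy => ?_
  intro s
  obtain ⟨z, hz⟩ := (φ g).surjective (φ g y + s)
  have h1 : s = φ g z - φ g y := by rw [hz]; abel
  have h2 : s + (φ g y - φ g x) = φ g z - φ g x := by rw [hz]; abel
  have h3 := hy (z - y)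
  rw [show z - y + (y - x) = z - x by abel] at h3
  rw [h2, h1, hS g y z, hS g x z]
  exact h3

/-- The stabiliser of a set of differences, as an additive subgroup. -/
def stab (S : Set (ZMod n)) : AddSubgroup (ZMod n) where
  carrier := {h | ∀ s, s ∈ S ↔ s + h ∈ S}
  zero_mem' := fun s => by simp
  add_mem' := fun {u v} hu hv s => by rw [hu s, hv (s + u), add_assoc]
  neg_mem' := fun {u} hu s => by rw [hu (s + -u), neg_add_cancel_right]

variable (hN : ∀ N : Subgroup G, N.Normal → N = ⊥ ∨ N = ⊤)

include htr hN in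
/-- An invariant equivalence relation is trivial. -/
theorem subgroup_eq_bot_or_top [NeZero n] (H : AddSubgroup (ZMod n))
    (hH : IsInv φ (H : Set (ZMod n))) : H = ⊥ ∨ H = ⊤ := by
  by_cases hb : H = ⊥
  · exact Or.inl hb
  right
  let N : Subgroup G :=
    { carrier := {g | ∀ x, φ g x - x ∈ H}
      one_mem' := fun x => by simp
      mul_mem' := fun {a b} ha hb x => by
        rw [map_mul, Equiv.Perm.mul_apply, show φ a (φ b x) - x =
          (φ a (φ b x) - φ b x) + (φ b x - x) by abel]
        exact add_mem (ha _) (hb x)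
      inv_mem' := fun {a} ha x => by
        have h1 : φ a (φ a⁻¹ x) = x := by
          rw [← Equiv.Perm.mul_apply, ← map_mul, mul_inv_cancel, map_one, Equiv.Perm.one_apply]
        have := neg_mem (ha (φ a⁻¹ x))
        rwa [h1, neg_sub] at this }
  have hNn : N.Normal := ⟨fun g hg h x => by
    have := (hH h _ _).2 (hg (φ h⁻¹ x))
    simpa [Equiv.Perm.mul_apply] using this⟩
  obtain ⟨t, htH, ht0⟩ : ∃ t ∈ H, t ≠ 0 := by
    rcases AddSubgroup.bot_or_exists_ne_zero H with h | h
    · exact absurd h hb
    · exact h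
  rcases hN N hNn with hN' | hN'
  · exfalso
    obtain ⟨g, hg⟩ := htr t
    have hgN : g ∈ N := fun x => by rw [hg, add_sub_cancel_left]; exact htH
    rw [hN', Subgroup.mem_bot] at hgN
    exact ht0 (by simpa [hgN] using (hg 0).symm)
  · obtain ⟨g, hg⟩ := htr 1
    have hgN : g ∈ N := hN' ▸ Subgroup.mem_top g
    have h1 : (1 : ZMod n) ∈ H := by
      have := hgN 0
      rwa [hg, add_sub_cancel_left] at this
    refine eq_top_iff.2 fun x _ => ?_
    rw [← ZMod.natCast_zmod_val x, ← nsmul_one]
    exact nsmul_mem h1 _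

/-- The number, modulo `ℓ`, of `s ∈ S` with `ℓ • s = x`, for a prime `ℓ`, is invariant. -/
theorem frobenius_invFun [NeZero n] (ℓ : ℕ) [Fact ℓ.Prime] (S : Finset (ZMod n))
    (hS : IsInv φ (S : Set (ZMod n))) :
    IsInvFun φ (fun x => (((S.filter fun s => ℓ • s = x).card : ℕ) : ZMod ℓ)) := by
  classical
  let F : AddMonoidAlgebra (ZMod ℓ) (ZMod n) := ∑ s ∈ S, AddMonoidAlgebra.single s 1
  have hpow : ∀ k, IsInvFun φ (fun x => (F ^ k).coeff x) := by
    intro k
    induction k with
    | zero =>
        intro g x y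
        simp only [pow_zero, AddMonoidAlgebra.one_def, AddMonoidAlgebra.coeff_single,
          Finsupp.single_apply, eq_comm (a := (0 : ZMod n)), sub_eq_zero,
          (φ g).injective.eq_iff]
    | succ k ih =>
        have hexp : ∀ x y : ZMod n, (F ^ (k + 1)).coeff (y - x) =
            ∑ z, if z - x ∈ S then (F ^ k).coeff (y - z) else 0 := by
          intro x y
          have e : (F ^ (k + 1)).coeff (y - x) = ∑ s ∈ S, (F ^ k).coeff (y - (x + s)) := by
            rw [pow_succ', Finset.sum_mul, AddMonoidAlgebra.coeff_sum, Finsupp.finsetSum_apply]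
            refine Finset.sum_congr rfl fun s _ => ?_
            rw [AddMonoidAlgebra.coeff_single_mul_apply, one_mul]
            congr 1
            abel
          rw [e, ← Finset.sum_filter]
          exact Finset.sum_nbij' (fun s => x + s) (fun z => z - x)
            (fun s hs => by simpa using hs) (fun z hz => by simpa using hz)
            (fun s _ => by simp) (fun z _ => by simp) (fun s _ => rfl)
        intro g x y
        show (F ^ (k + 1)).coeff _ = (F ^ (k + 1)).coeff _
        rw [hexp, hexp]
        refine (Fintype.sum_equiv (φ g) _ _ fun z => ?_).symm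
        have hih : (F ^ k).coeff (φ g y - φ g z) = (F ^ k).coeff (y - z) := ih g z y
        rw [hih]
        by_cases hz : z - x ∈ S
        · rw [if_pos hz, if_pos (Finset.mem_coe.1 ((hS g x z).2 (Finset.mem_coe.2 hz)))]
        · rw [if_neg hz, if_neg fun h => hz (Finset.mem_coe.1 ((hS g x z).1 (Finset.mem_coe.2 h)))]
  haveI : CharP (AddMonoidAlgebra (ZMod ℓ) (ZMod n)) ℓ :=
    charP_of_injective_ringHom (f := algebraMap (ZMod ℓ) (AddMonoidAlgebra (ZMod ℓ) (ZMod n)))
      (RingHom.injective _) ℓ
  haveI : ExpChar (AddMonoidAlgebra (ZMod ℓ) (ZMod n)) ℓ :=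
    ExpChar.prime (Fact.out : ℓ.Prime)
  have hF : ∀ x, (F ^ ℓ).coeff x = (((S.filter fun s => ℓ • s = x).card : ℕ) : ZMod ℓ) := by
    intro x
    rw [sum_pow_char ℓ, AddMonoidAlgebra.coeff_sum, Finsupp.finsetSum_apply,
      Finset.natCast_card_filter]
    refine Finset.sum_congr rfl fun s _ => ?_
    rw [AddMonoidAlgebra.single_pow, one_pow, AddMonoidAlgebra.coeff_single, Finsupp.single_apply]
  intro g x y
  simp only [← hF]
  exact hpow ℓ g x y

theorem isInv_of_invFun {R : Type*} {c : ZMod n → R} (hc : IsInvFun φ c) (P : R → Prop) :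
    IsInv φ {x | P (c x)} := fun g x y => by simp only [Set.mem_setOf_eq, hc g x y]

/-- Multiplication by an integer prime to `n` preserves invariant relations. -/
theorem isInv_image_nsmul [NeZero n] (m : ℕ) (hm : m.Coprime n) {S : Set (ZMod n)}
    (hS : IsInv φ S) : IsInv φ ((fun x => m • x) '' S) := by
  classical
  induction m using Nat.recOnMul generalizing S with
  | zero =>
      have hn : n = 1 := by simpa using hm
      subst hn
      intro g x y
      rw [Subsingleton.elim (φ g y - φ g x) (y - x)]
  | one => simpa using hS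
  | prime ℓ hℓ =>
      haveI : Fact ℓ.Prime := ⟨hℓ⟩
      have hinj : Function.Injective fun x : ZMod n => ℓ • x := by
        intro x y h
        simp only [nsmul_eq_mul] at h
        exact ((ZMod.isUnit_iff_coprime ℓ n).2 hm).mul_left_cancel h
      have hf : ∀ (s : Finset (ZMod n)) (x : ZMod n),
          (((s.filter fun t => ℓ • t = x).card : ℕ) : ZMod ℓ) ≠ 0 ↔
            x ∈ (fun t => ℓ • t) '' (s : Set (ZMod n)) := by
        intro s x
        by_cases hx : ∃ t ∈ s, ℓ • t = x
        · obtain ⟨t, ht, rfl⟩ := hx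
          rw [show s.filter (fun u => ℓ • u = ℓ • t) = {t} by
            ext u
            simp only [mem_filter, mem_singleton]
            exact ⟨fun h => hinj h.2, fun h => by rw [h]; exact ⟨ht, rfl⟩⟩]
          simpa using ⟨t, ht, rfl⟩
        · rw [show s.filter (fun u => ℓ • u = x) = ∅ by
            simpa [Finset.filter_eq_empty_iff] using hx]
          simpa using hx
      have h1 := isInv_of_invFun (frobenius_invFun ℓ (Set.toFinite S).toFinset
        (by simpa using hS)) (fun v => v ≠ 0)
      have h2 : {x : ZMod n | ((((Set.toFinite S).toFinset.filter fun t => ℓ • t = x).card : ℕ) :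
          ZMod ℓ) ≠ 0} = (fun x => ℓ • x) '' S := by
        ext x
        rw [Set.mem_setOf_eq, hf, Set.Finite.coe_toFinset]
      rw [← h2]
      exact h1
  | mul a b iha ihb =>
      have ha : a.Coprime n := hm.coprime_dvd_left (dvd_mul_right a b)
      have hb : b.Coprime n := hm.coprime_dvd_left (dvd_mul_left b a)
      have := iha ha (ihb hb hS)
      rw [Set.image_image] at this
      simpa only [mul_nsmul'] using this

theorem isInv_image_mul [NeZero n] (u : (ZMod n)ˣ) {S : Set (ZMod n)} (hS : IsInv φ S) :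
    IsInv φ ((fun x => (u : ZMod n) * x) '' S) := by
  have := isInv_image_nsmul (φ := φ) (u : ZMod n).val (ZMod.val_coe_unit_coprime u) hS
  simpa [nsmul_eq_mul] using this

include htr in
/-- A multiplier mapping one point of a suborbit into that suborbit fixes the suborbit. -/
theorem image_mul_suborbit [NeZero n] (u : (ZMod n)ˣ) {a : ZMod n}
    (h : (u : ZMod n) * a ∈ suborbit φ a) :
    (fun x => (u : ZMod n) * x) '' suborbit φ a = suborbit φ a := by
  have h1 : suborbit φ a ⊆ (fun x => (u : ZMod n) * x) '' suborbit φ a := by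
    have h2 := suborbit_subset htr (isInv_image_mul u (isInv_suborbit htr a))
      (a := (u : ZMod n) * a) ⟨a, mem_suborbit_self a, rfl⟩
    rwa [suborbit_eq_of_mem h] at h2
  refine (Set.eq_of_subset_of_ncard_le h1 ?_ (Set.toFinite _)).symm
  exact Set.ncard_image_le (Set.toFinite _)

section PrimePow

variable {p a : ℕ} [hp : Fact p.Prime]

include htr hN in
/-- In degree `p ^ a` every nontrivial suborbit contains an element of order `p`. -/
theorem exists_mem_suborbit_nsmul_eq_zero (hn : n = p ^ a) (ha : 2 ≤ a) (x : ZMod n) :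
    ∃ b ∈ suborbit φ x, p • b = 0 := by
  classical
  haveI : NeZero n := ⟨hn ▸ pow_ne_zero a hp.out.ne_zero⟩
  haveI : Fact (1 < n) := ⟨hn ▸ Nat.one_lt_pow (by omega) hp.out.one_lt⟩
  by_contra hcon
  push_neg at hcon
  set O := suborbit φ x with hO
  have hOinv : IsInv φ O := isInv_suborbit htr x
  let S := (Set.toFinite O).toFinset
  have hSinv : IsInv φ (S : Set (ZMod n)) := by simpa [S] using hOinv
  let c : ZMod n → ZMod p := fun y => (((S.filter fun s => p • s = y).card : ℕ) : ZMod p)
  have hc : IsInvFun φ c := frobenius_invFun p S hSinv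
  have hsupp : {y : ZMod n | c y ≠ 0} ⊆ {0} := by
    have hle : AddSubgroup.closure {y : ZMod n | c y ≠ 0} ≤
        (nsmulAddMonoidHom p : ZMod n →+ ZMod n).range := by
      refine (AddSubgroup.closure_le _).2 fun y hy => ?_
      by_contra hy'
      apply hy
      simp only [c]
      rw [show S.filter (fun s => p • s = y) = ∅ by
        rw [Finset.filter_eq_empty_iff]
        exact fun s _ hs => hy' ⟨s, hs⟩]
      simp
    rcases subgroup_eq_bot_or_top htr hN _ (isInv_closure (isInv_of_invFun hc fun v => v ≠ 0))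
      with h | h
    · intro y hy
      have : y ∈ AddSubgroup.closure {y : ZMod n | c y ≠ 0} := AddSubgroup.subset_closure hy
      rw [h] at this
      simpa using this
    · exfalso
      rw [h] at hle
      obtain ⟨s, hs⟩ := hle (AddSubgroup.mem_top (1 : ZMod n))
      have hdvd : p ∣ n := hn ▸ dvd_pow_self p (by omega)
      have h2 := congrArg (ZMod.castHom hdvd (ZMod p)) hs
      rw [nsmulAddMonoidHom_apply, nsmul_eq_mul, map_mul, map_natCast, map_one,
        ZMod.natCast_self, zero_mul] at h2
      exact zero_ne_one h2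
  -- `μ` is contained in the stabiliser of the suborbit
  set e : ZMod n := ((p ^ (a - 1) : ℕ) : ZMod n) with he
  have he0 : e ≠ 0 := by
    rw [he, Ne, ZMod.natCast_eq_zero_iff, hn, Nat.pow_dvd_pow_iff_le_right hp.out.one_lt]
    omega
  have hpe : p • e = 0 := by
    rw [he, nsmul_eq_mul, ← Nat.cast_mul, ← pow_succ', Nat.sub_add_cancel (by omega), ← hn,
      ZMod.natCast_self]
  have hker : Nat.card (nsmulAddMonoidHom p : ZMod n →+ ZMod n).ker = p := by
    haveI : IsAddCyclic (ZMod n) := inferInstance
    rw [IsAddCyclic.card_nsmulAddMonoidHom_ker, Nat.card_zmod, hn,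
      Nat.gcd_eq_right (dvd_pow_self p (by omega))]
  have hstep : ∀ s ∈ O, s + e ∈ O := by
    intro s hs
    have hps : p • s ≠ 0 := hcon s hs
    have hc0 : c (p • s) = 0 := by
      by_contra h
      exact hps (hsupp h)
    set T := S.filter fun t => p • t = p • s with hT
    have hsT : s ∈ T := by simp [hT, S, hs]
    have hdvd : p ∣ T.card := (ZMod.natCast_eq_zero_iff _ p).1 hc0
    let K : Finset (ZMod n) := Finset.univ.filter fun t => p • t = p • s
    have hK : K.card = p := by
      refine Eq.trans ?_ hker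
      rw [← SetLike.coe_sort_coe, Nat.card_coe_set_eq, ← Set.ncard_coe_finset]
      refine Set.ncard_congr (fun t _ => t - s) (fun t ht => ?_) (fun u v _ _ h => by simpa using h)
        (fun u hu => ⟨u + s, ?_, by simp⟩)
      · have ht' : p • t = p • s := by simpa [K] using ht
        simp [AddMonoidHom.mem_ker, smul_sub, ht']
      · have hu' : p • u = 0 := by simpa [AddMonoidHom.mem_ker] using hu
        simp only [K, mem_filter, mem_univ, true_and, smul_add, hu', zero_add, Finset.mem_coe]
    have hTK : T ⊆ K := fun t ht => by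
      simp only [hT, mem_filter] at ht
      simp only [K, mem_filter, mem_univ, true_and, ht.2]
    have hTeq : T = K := Finset.eq_of_subset_of_card_le hTK
      (hK.symm ▸ Nat.le_of_dvd (Finset.card_pos.2 ⟨s, hsT⟩) hdvd)
    have : s + e ∈ T := by
      rw [hTeq]
      simp only [K, mem_filter, mem_univ, true_and, smul_add, hpe, add_zero]
    simp only [hT, mem_filter, S, Set.Finite.mem_toFinset] at this
    exact this.1
  have hmem : e ∈ stab O := by
    intro s
    refine ⟨hstep s, fun h => ?_⟩
    have h1 : ∀ k : ℕ, s + e + k • e ∈ O := by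
      intro k
      induction k with
      | zero => simpa using h
      | succ k ih => rw [succ_nsmul, ← add_assoc]; exact hstep _ ih
    have h2 := h1 (p - 1)
    rwa [add_assoc, add_comm e, ← succ_nsmul, Nat.sub_add_cancel hp.out.one_le, hpe,
      add_zero] at h2
  rcases subgroup_eq_bot_or_top htr hN (stab O) (isInv_stab hOinv) with h | h
  · rw [h] at hmem
    exact he0 (by simpa using hmem)
  · have h1 : (-x : ZMod n) ∈ stab O := h ▸ AddSubgroup.mem_top _
    have h2 : (0 : ZMod n) ∈ O := by simpa using (h1 x).1 (mem_suborbit_self x)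
    exact hcon 0 h2 (nsmul_zero _)

include htr hN in
/-- In degree `p ^ a`, `2 ≤ a`, multipliers congruent to `1` modulo `p` fix the suborbits. -/
theorem invFun_mul_congr_one (hn : n = p ^ a) (ha : 2 ≤ a) {R : Type*} {c : ZMod n → R}
    (hc : IsInvFun φ c) (m : ℕ) (hm : m ≡ 1 [MOD p]) (x : ZMod n) :
    c ((m : ZMod n) * x) = c x := by
  haveI : NeZero n := ⟨hn ▸ pow_ne_zero a hp.out.ne_zero⟩
  have hcop : m.Coprime n := by
    rw [hn]
    refine Nat.Coprime.pow_right a (Nat.coprime_comm.1 (hp.out.coprime_iff_not_dvd.2 fun h => ?_))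
    exact hp.out.one_lt.ne' (Nat.dvd_one.1 (hm.dvd_iff dvd_rfl |>.1 h))
  let u := ZMod.unitOfCoprime m hcop
  obtain ⟨b, hb, hpb⟩ := exists_mem_suborbit_nsmul_eq_zero htr hN hn ha x
  have hfix : (u : ZMod n) * b = b := by
    rw [ZMod.coe_unitOfCoprime, ← nsmul_eq_mul, ← Nat.mod_add_div m p, hm, Nat.one_mod_eq_one.2
      hp.out.one_lt.ne', add_nsmul, one_nsmul, mul_comm p, mul_nsmul', hpb, nsmul_zero, add_zero]
  have himg := image_mul_suborbit htr u (a := b) (by rw [hfix]; exact mem_suborbit_self b)
  rw [suborbit_eq_of_mem hb] at himg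
  have : (u : ZMod n) * x ∈ suborbit φ x := himg ▸ ⟨x, mem_suborbit_self x, rfl⟩
  rw [ZMod.coe_unitOfCoprime] at this
  exact invFun_const_suborbit hc this

end PrimePow

section Prime

variable {p : ℕ} [hp : Fact p.Prime] {ψ : G →* Equiv.Perm (ZMod p)}
  (htp : ∀ t : ZMod p, ∃ g, ∀ x, ψ g x = x + t)

theorem zero_not_mem_suborbit_one : (0 : ZMod p) ∉ suborbit ψ 1 := by
  rintro ⟨g, h0, h1⟩
  exact one_ne_zero ((ψ g).injective (h1.trans h0.symm))

include htp in
/-- In prime degree the suborbit of `1` consists of multipliers fixing all suborbits. -/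
theorem mul_mem_suborbit {b : ZMod p} (hb : b ∈ suborbit ψ 1) (x : ZMod p) :
    b * x ∈ suborbit ψ x := by
  by_cases hx : x = 0
  · subst hx
    simpa using mem_suborbit_self (φ := ψ) (0 : ZMod p)
  have hb0 : b ≠ 0 := fun h => zero_not_mem_suborbit_one (h ▸ hb)
  let u : (ZMod p)ˣ := Units.mk0 b hb0
  let v : (ZMod p)ˣ := Units.mk0 x hx
  have hu := image_mul_suborbit htp u (a := 1) (by simpa [u] using hb)
  have h1 : suborbit ψ x ⊆ (fun y => (v : ZMod p) * y) '' suborbit ψ 1 :=
    suborbit_subset htp (isInv_image_mul v (isInv_suborbit htp 1))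
      ⟨1, mem_suborbit_self 1, by simp [v]⟩
  have h2 : suborbit ψ 1 ⊆ (fun y => ((v⁻¹ : (ZMod p)ˣ) : ZMod p) * y) '' suborbit ψ x :=
    suborbit_subset htp (isInv_image_mul v⁻¹ (isInv_suborbit htp x))
      ⟨x, mem_suborbit_self x, by simp [v, hx]⟩
  obtain ⟨y, hy, hby⟩ := h2 hb
  simp only [v, Units.val_inv_eq_inv_val, Units.val_mk0] at hby
  rw [← hby, mul_comm, ← mul_assoc, mul_inv_cancel₀ hx, one_mul]
  exact hy

include htp in
theorem invFun_mul_suborbit {R : Type*} {c : ZMod p → R} (hc : IsInvFun ψ c) {b : ZMod p}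
    (hb : b ∈ suborbit ψ 1) (x : ZMod p) : c (b * x) = c x :=
  invFun_const_suborbit hc (mul_mem_suborbit htp hb x)

open Polynomial

include htp in
/-- In prime degree, a small suborbit forces all permutations to be affine. -/
theorem affine_of_small {k : ℕ} (hk : (suborbit ψ 1).ncard = k) (hk2 : 2 ≤ k)
    (hsmall : (k - 1) ^ 2 < p) (g : G) :
    ∃ c d : ZMod p, ∀ x, ψ g x = c * x + d := by
  classical
  set M := (Set.toFinite (suborbit ψ 1)).toFinset with hM
  have hMk : M.card = k := by rw [← hk, Set.ncard_eq_toFinset_card _ (Set.toFinite _)]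
  have hM0 : ∀ s ∈ M, s ≠ 0 := fun s hs h =>
    zero_not_mem_suborbit_one (ψ := ψ) (by simpa [hM, h] using hs)
  have hmul : ∀ b ∈ M, ∀ s ∈ M, b * s ∈ M := by
    intro b hb s hs
    simp only [hM, Set.Finite.mem_toFinset] at hb hs ⊢
    rw [← suborbit_eq_of_mem hs]
    exact mul_mem_suborbit htp hb s
  have hkp : k ≤ p - 1 := by
    rw [← hMk]
    calc M.card ≤ ((Finset.univ : Finset (ZMod p)).erase 0).card :=
          Finset.card_le_card fun s hs => Finset.mem_erase.2 ⟨hM0 s hs, Finset.mem_univ _⟩
      _ = p - 1 := by simp [ZMod.card]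
  -- power sums
  have hsum : ∀ i, 0 < i → i < k → ∑ s ∈ M, s ^ i = 0 := by
    intro i hi hik
    obtain ⟨b, hb, hbi⟩ : ∃ b ∈ M, b ^ i ≠ 1 := by
      by_contra h
      push_neg at h
      have hne : (X ^ i - C (1 : ZMod p)) ≠ 0 := Polynomial.X_pow_sub_C_ne_zero hi 1
      have := Polynomial.card_le_degree_of_subset_roots (p := X ^ i - C (1 : ZMod p)) (Z := M)
        (fun s hs => by
          rw [Polynomial.mem_roots hne]
          simp [h s hs])
      rw [Polynomial.natDegree_X_pow_sub_C, hMk] at this
      omega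
    have h1 : b ^ i * ∑ s ∈ M, s ^ i = ∑ s ∈ M, s ^ i := by
      rw [Finset.mul_sum]
      simp only [← mul_pow]
      have hinj : Set.InjOn (fun s => b * s) M := fun s _ t _ h => mul_left_cancel₀ (hM0 b hb) h
      have himg : M.image (fun s => b * s) = M := Finset.eq_of_subset_of_card_le
        (fun t ht => by
          obtain ⟨s, hs, rfl⟩ := Finset.mem_image.1 ht
          exact hmul b hb s hs) (by rw [Finset.card_image_of_injOn hinj])
      conv_rhs => rw [← himg, Finset.sum_image hinj]
    by_contra hne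
    exact hbi (mul_right_cancel₀ hne (h1.trans (one_mul _).symm))
  -- the invariant space
  let V : (ZMod p → ZMod p) → Prop := fun f => ∀ x, ∑ s ∈ M, f (x + s) = (k : ZMod p) * f x
  have hVinv : ∀ f, V f → V (fun x => f (ψ g x)) := by
    intro f hf x
    show ∑ s ∈ M, f (ψ g (x + s)) = _
    rw [← hf (ψ g x)]
    refine Finset.sum_nbij' (fun s => ψ g (x + s) - ψ g x)
      (fun t => (ψ g).symm (ψ g x + t) - x) (fun s hs => ?_) (fun t ht => ?_) (fun s _ => ?_)
      (fun t _ => ?_) (fun s _ => ?_)
    · simp only [hM, Finset.mem_coe, Set.Finite.mem_toFinset] at hs ⊢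
      exact (isInv_suborbit htp 1 g x (x + s)).2 (by simpa using hs)
    · simp only [hM, Finset.mem_coe, Set.Finite.mem_toFinset] at ht ⊢
      refine (isInv_suborbit htp 1 g x _).1 ?_
      simpa using ht
    · simp
    · simp
    · simp
  have hcast : ∀ i : ℕ, ∑ s ∈ M, s ^ i = if i = 0 then (k : ZMod p) else ∑ s ∈ M, s ^ i := by
    intro i
    split_ifs with h
    · subst h; simp [hMk]
    · rfl
  have hVlow : ∀ P : (ZMod p)[X], P.natDegree < k → V (fun x => P.eval x) := by
    intro P hP x
    have hdeg : ∀ s, P.eval (x + s) = ∑ i ∈ Finset.range k, (taylor x P).coeff i * s ^ i := by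
      intro s
      rw [add_comm, ← taylor_eval, Polynomial.eval_eq_sum_range' (n := k)
        (by rw [natDegree_taylor]; exact hP)]
    calc ∑ s ∈ M, P.eval (x + s)
        = ∑ i ∈ Finset.range k, (taylor x P).coeff i * ∑ s ∈ M, s ^ i := by
          simp only [hdeg, Finset.mul_sum]
          exact Finset.sum_comm
      _ = (taylor x P).coeff 0 * ∑ s ∈ M, s ^ 0 := by
          refine Finset.sum_eq_single_of_mem 0 (Finset.mem_range.2 (by omega)) fun i hi hi0 => ?_
          rw [hsum i (Nat.pos_of_ne_zero hi0) (Finset.mem_range.1 hi), mul_zero]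
      _ = (k : ZMod p) * P.eval x := by simp [taylor_coeff_zero, hMk, mul_comm]
  -- polynomials of small degree in the space have degree `< k`
  have hVdeg : ∀ P : (ZMod p)[X], P.natDegree < p → V (fun x => P.eval x) → P.natDegree < k := by
    intro P hP hV
    by_contra hcon
    push_neg at hcon
    set δ := P.natDegree with hδ
    have hP0 : P ≠ 0 := by
      intro h
      rw [hδ, h, natDegree_zero] at hcon
      omega
    let D : (ZMod p)[X] := ∑ s ∈ M, taylor s P - C (k : ZMod p) * P
    have hDev : ∀ x, D.eval x = 0 := by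
      intro x
      simp only [D, eval_sub, eval_mul, eval_C, eval_finsetSum, taylor_eval]
      exact sub_eq_zero.2 (hV x)
    have hDdeg : D.natDegree < p := by
      refine lt_of_le_of_lt (natDegree_sub_le _ _) (max_lt ?_ ?_)
      · exact lt_of_le_of_lt (natDegree_sum_le_of_forall_le M _ (n := δ)
          fun s _ => (natDegree_taylor P s).le) hP
      · exact lt_of_le_of_lt (natDegree_C_mul_le _ _) hP
    have hD0 : D = 0 := eq_zero_of_natDegree_lt_card_of_eval_eq_zero D
      (f := (id : ZMod p → ZMod p)) Function.injective_id hDev (by rwa [ZMod.card])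
    have hc := congrArg (fun Q => Q.coeff (δ - k)) hD0
    simp only [D, coeff_sub, finsetSum_coeff, coeff_C_mul, coeff_zero, taylor_coeff] at hc
    have hh : ∀ s : ZMod p, (hasseDeriv (δ - k) P).eval s =
        ∑ j ∈ Finset.range (k + 1),
          (((j + (δ - k)).choose (δ - k) : ℕ) : ZMod p) * P.coeff (j + (δ - k)) * s ^ j := by
      intro s
      rw [Polynomial.eval_eq_sum_range' (n := k + 1)]
      · simp only [hasseDeriv_coeff]
      · refine lt_of_le_of_lt (Polynomial.natDegree_hasseDeriv_le _ _) ?_
        omega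
    simp only [hh] at hc
    rw [Finset.sum_comm] at hc
    simp only [← Finset.mul_sum] at hc
    rw [Finset.sum_range_succ, Finset.sum_eq_single_of_mem 0 (Finset.mem_range.2 (by omega))
      (fun i hi hi0 => by
        rw [hsum i (Nat.pos_of_ne_zero hi0) (Finset.mem_range.1 hi), mul_zero])] at hc
    have hk1 : ∀ s ∈ M, s ^ k = 1 := by
      intro s hs
      have hinj : Set.InjOn (fun t => s * t) M := fun t _ t' _ h => mul_left_cancel₀ (hM0 s hs) h
      have himg : M.image (fun t => s * t) = M := Finset.eq_of_subset_of_card_le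
        (fun t ht => by
          obtain ⟨w, hw, rfl⟩ := Finset.mem_image.1 ht
          exact hmul s hs w hw) (by rw [Finset.card_image_of_injOn hinj])
      have h1 : ∏ t ∈ M, (s * t) = ∏ t ∈ M, t := by
        conv_rhs => rw [← himg, Finset.prod_image hinj]
      rw [Finset.prod_mul_distrib, Finset.prod_const, hMk] at h1
      exact mul_right_cancel₀ (Finset.prod_ne_zero_iff.2 hM0) (h1.trans (one_mul _).symm)
    rw [Finset.sum_congr rfl hk1] at hc
    simp only [zero_add, pow_zero, Finset.sum_const, hMk, nsmul_one, Nat.choose_self,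
      Nat.cast_one, one_mul] at hc
    rw [mul_comm (P.coeff (δ - k)), add_sub_cancel_left, Nat.add_sub_cancel' hcon] at hc
    have hk0 : (k : ZMod p) ≠ 0 := fun h => by
      have := Nat.le_of_dvd (by omega) ((ZMod.natCast_eq_zero_iff k p).1 h)
      have := hp.out.two_le
      omega
    have hbin : ((δ.choose (δ - k) : ℕ) : ZMod p) ≠ 0 := fun h => by
      have hd : p ∣ δ.factorial := ((ZMod.natCast_eq_zero_iff _ p).1 h).trans
        ⟨(δ - k).factorial * k.factorial, by
          rw [← mul_assoc, ← Nat.choose_mul_factorial_mul_factorial (Nat.sub_le δ k),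
            Nat.sub_sub_self hcon]⟩
      have := hp.out.dvd_factorial.1 hd
      omega
    exact mul_ne_zero (mul_ne_zero hbin (leadingCoeff_ne_zero.2 hP0)) hk0 hc
  -- interpolation
  have hrep : ∀ f : ZMod p → ZMod p, V f → ∃ P : (ZMod p)[X], P.natDegree < k ∧
      ∀ x, P.eval x = f x := by
    intro f hf
    let P := Lagrange.interpolate (Finset.univ : Finset (ZMod p)) id f
    have hev : ∀ x, P.eval x = f x := fun x =>
      Lagrange.eval_interpolate_at_node f Function.injective_id.injOn (Finset.mem_univ x)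
    have hPp : P.natDegree < p := by
      by_cases hP0 : P = 0
      · rw [hP0, natDegree_zero]; exact hp.out.pos
      rw [natDegree_lt_iff_degree_lt hP0]
      have := Lagrange.degree_interpolate_lt f
        (Function.injective_id.injOn (s := ((Finset.univ : Finset (ZMod p)) : Set (ZMod p))))
      rwa [Finset.card_univ, ZMod.card] at this
    exact ⟨P, hVdeg P hPp (by simpa only [hev] using hf), hev⟩
  obtain ⟨P, hPk, hP⟩ := hrep (fun x => ψ g x)
    (hVinv (fun y => y) (by simpa using hVlow X (by rw [natDegree_X]; omega)))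
  obtain ⟨Q, hQk, hQ⟩ := hrep (fun x => ψ g x ^ (k - 1))
    (hVinv (fun y => y ^ (k - 1)) (by
      simpa using hVlow (X ^ (k - 1)) (by rw [natDegree_X_pow]; omega)))
  have hPQ : P ^ (k - 1) = Q := by
    refine eq_of_natDegree_lt_card_of_eval_eq _ _ (f := (id : ZMod p → ZMod p))
      Function.injective_id (fun x => by simp [hP, hQ]) ?_
    rw [ZMod.card, natDegree_pow]
    refine max_lt (lt_of_le_of_lt ?_ hsmall) (by omega)
    rw [pow_two]
    exact Nat.mul_le_mul_left _ (by omega)
  have hP1 : P.natDegree ≤ 1 := by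
    by_contra h
    have : (k - 1) * P.natDegree < k := by rw [← natDegree_pow, hPQ]; exact hQk
    nlinarith [Nat.sub_add_cancel (le_of_lt hk2 : 1 ≤ k)]
  refine ⟨P.coeff 1, P.coeff 0, fun x => ?_⟩
  rw [← hP, Polynomial.eval_eq_sum_range' (n := 2) (by omega)]
  simp [Finset.sum_range_succ, add_comm]

end Prime

end Cfsg.Agent.H32.OrbitPerm
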