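import Mathlib
import Cfsg.Agent.H32.OrbitPerm
import Cfsg.Agent.H32.OrbitBound
import Cfsg.Agent.H19.MinimalNormal

/-!
A group acting coprimely and faithfully on a finite field, having the same orbits as a cyclic
Sylow `p`-subgroup (`p` odd) which acts as multiplication by a generator of the field, is solvable,
provided all its proper normal subgroups are.
-/

set_option autoImplicit false

namespace Cfsg.Agent.H32.OrbitCyclic

open Finset

theorem isSolvable_of_normal_solvable {T : Type*} [Group T] {M : Type*} [Group M] (f : T →* M)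
    (hk : Group.IsSolvable f.ker) (hM : Group.IsSolvable M) : Group.IsSolvable T :=
  Group.isSolvable_of_ker_le_range f.ker.subtype f (le_of_eq (Subgroup.range_subtype _).symm)

/-- The orbit lengths of a normal subgroup divide those of the group. -/
theorem relIndex_dvd_index_normal {T : Type*} [Group T] [Finite T] (H N : Subgroup T) [N.Normal] :
    H.relIndex N ∣ H.index := by
  have h1 : H.relIndex N * N.index = (H ⊓ N).index := by
    rw [← Subgroup.inf_relIndex_right H N, Subgroup.relIndex_mul_index inf_le_right]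
  have h2 : N.relIndex H * H.index = (H ⊓ N).index := by
    rw [← Subgroup.inf_relIndex_right N H, inf_comm N H, Subgroup.relIndex_mul_index inf_le_left]
  have h3 : N.relIndex H * (H ⊔ N).index = N.index := by
    rw [← Subgroup.relIndex_sup_right H N, Subgroup.relIndex_mul_index le_sup_right]
  refine ⟨(H ⊔ N).index, ?_⟩
  refine Nat.eq_of_mul_eq_mul_left
    (Nat.pos_of_ne_zero (Subgroup.index_ne_zero_of_finite (H := N.subgroupOf H))) ?_
  calc N.relIndex H * H.index = H.relIndex N * N.index := by rw [h1, h2]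
    _ = N.relIndex H * (H.relIndex N * (H ⊔ N).index) := by rw [← h3]; ring

/-- The action on a cyclic normal subgroup gives an abelian quotient. -/
theorem isSolvable_of_centralizer_cyclic {T : Type*} [Group T] (A : Subgroup T) [A.Normal]
    (hA : IsCyclic A) (hk : Group.IsSolvable (Subgroup.centralizer (A : Set T))) :
    Group.IsSolvable T := by
  let f : T →* MulAut A := MulAut.conjNormal
  have hker : f.ker ≤ Subgroup.centralizer (A : Set T) := by
    intro t ht
    rw [Subgroup.mem_centralizer_iff]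
    intro a ha
    have h1 : f t ⟨a, ha⟩ = ⟨a, ha⟩ := by rw [MonoidHom.mem_ker.1 ht]; rfl
    have h2 : t * a * t⁻¹ = a := by
      have := congrArg Subtype.val h1
      simpa [f] using this
    exact (mul_inv_eq_iff_eq_mul.1 h2).symm
  have h1 : Group.IsSolvable f.ker :=
    Group.isSolvable_of_isSolvable_injective (Subgroup.inclusion_injective hker)
  have h2 : Group.IsSolvable (MulAut A) := by
    haveI := hA
    refine Group.isSolvable_of_comm fun s t => ?_
    obtain ⟨a, ha⟩ := IsCyclic.exists_zpow_surjective (G := A)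
    obtain ⟨i, hi⟩ := ha (s a)
    obtain ⟨j, hj⟩ := ha (t a)
    simp only at hi hj
    refine MulEquiv.ext fun x => ?_
    obtain ⟨k, rfl⟩ := ha x
    simp only [MulAut.mul_apply, map_zpow, ← hi, ← hj]
    rw [← zpow_mul a i j, ← zpow_mul a j i, mul_comm]
  exact isSolvable_of_normal_solvable f h1 h2

section Field

variable {E : Type*} [Field E] [Finite E] {q : ℕ} [Fact q.Prime] [CharP E q]

/-- A `ZMod q`-linear functional is a trace form; equal values along powers of `ζ` and `ζ ^ m`
produce an automorphism. -/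
theorem exists_aut_of_functional [Algebra (ZMod q) E] (ζ : E)
    (hgen : ∀ σ τ : E ≃ₐ[ZMod q] E, σ ζ = τ ζ → σ = τ)
    (Φ : E →ₗ[ZMod q] ZMod q) (hΦ : Φ 1 ≠ 0) (m : ℕ)
    (hinj : ∀ σ τ : E ≃ₐ[ZMod q] E, σ (ζ ^ m) = τ (ζ ^ m) → σ = τ)
    (h : ∀ i : ℕ, Φ ((ζ ^ m) ^ i) = Φ (ζ ^ i)) :
    ∃ τ : E ≃ₐ[ZMod q] E, τ ζ = ζ ^ m := by
  classical
  haveI : Fintype E := Fintype.ofFinite E
  haveI : Module.Finite (ZMod q) E := inferInstance
  let B := Algebra.traceForm (ZMod q) E
  have hB : B.Nondegenerate := traceForm_nondegenerate (ZMod q) E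
  obtain ⟨a, ha⟩ := (B.toDual hB).surjective Φ
  have hΦa : ∀ x, algebraMap (ZMod q) E (Φ x) = ∑ σ : E ≃ₐ[ZMod q] E, σ a * σ x := by
    intro x
    rw [← ha, LinearMap.BilinForm.toDual_def, Algebra.traceForm_apply, trace_eq_sum_automorphisms]
    simp only [map_mul]
  have ha0 : a ≠ 0 := by
    rintro rfl
    apply hΦ
    rw [← ha]
    simp
  by_contra hne
  push_neg at hne
  let R : Polynomial E :=
    (∏ σ : E ≃ₐ[ZMod q] E, (Polynomial.X - Polynomial.C (σ ζ))) *
      ∏ σ ∈ (Finset.univ : Finset (E ≃ₐ[ZMod q] E)).erase 1,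
        (Polynomial.X - Polynomial.C (σ (ζ ^ m)))
  have hR1 : ∀ σ : E ≃ₐ[ZMod q] E, R.eval (σ ζ) = 0 := fun σ => by
    simp only [R, Polynomial.eval_mul, Polynomial.eval_prod]
    rw [Finset.prod_eq_zero (Finset.mem_univ σ) (by simp), zero_mul]
  have hR2 : ∀ σ : E ≃ₐ[ZMod q] E, σ ≠ 1 → R.eval (σ (ζ ^ m)) = 0 := fun σ hσ => by
    simp only [R, Polynomial.eval_mul, Polynomial.eval_prod]
    rw [mul_comm, Finset.prod_eq_zero (Finset.mem_erase.2 ⟨hσ, Finset.mem_univ σ⟩) (by simp),
      zero_mul]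
  have hR3 : R.eval (ζ ^ m) ≠ 0 := by
    simp only [R, Polynomial.eval_mul, Polynomial.eval_prod]
    refine mul_ne_zero (Finset.prod_ne_zero_iff.2 fun σ _ => ?_)
      (Finset.prod_ne_zero_iff.2 fun σ hσ => ?_)
    · simpa [sub_eq_zero] using (hne σ).symm
    · intro h0
      simp only [Polynomial.eval_sub, Polynomial.eval_X, Polynomial.eval_C, sub_eq_zero] at h0
      exact (Finset.mem_erase.1 hσ).1 (hinj σ 1 (by simpa using h0.symm))
  have hsum : ∑ σ : E ≃ₐ[ZMod q] E, σ a * R.eval (σ (ζ ^ m)) =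
      ∑ σ : E ≃ₐ[ZMod q] E, σ a * R.eval (σ ζ) := by
    have h1 : ∀ u : E, ∑ σ : E ≃ₐ[ZMod q] E, σ a * R.eval (σ u) =
        ∑ i ∈ Finset.range (R.natDegree + 1), R.coeff i * algebraMap (ZMod q) E (Φ (u ^ i)) := by
      intro u
      simp only [Polynomial.eval_eq_sum_range, Finset.mul_sum, hΦa, map_pow]
      rw [Finset.sum_comm]
      exact Finset.sum_congr rfl fun i _ => Finset.sum_congr rfl fun σ _ => by ring
    rw [h1, h1]
    simp only [h]
  rw [Finset.sum_eq_single (1 : E ≃ₐ[ZMod q] E) (fun σ _ hσ => by rw [hR2 σ hσ, mul_zero])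
    (fun h1 => absurd (Finset.mem_univ _) h1),
    Finset.sum_eq_zero (fun σ _ => by rw [hR1 σ, mul_zero])] at hsum
  simp only [AlgEquiv.one_apply] at hsum
  exact mul_ne_zero ha0 hR3 hsum

end Field

/-- The index of a stabiliser of `1` when all orbits are those of multiplication by `ζ`. -/
theorem index_eq_card_stab {T E : Type*} [Group T] [Finite T] [Field E] [Finite E]
    [DistribMulAction T E] (c : T) (ζ : E) (hc : ∀ x : E, c • x = ζ * x)
    (hn : orderOf ζ = orderOf c) (horb : ∀ (g : T) (x : E), ∃ i : ℕ, g • x = ζ ^ i * x) :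
    Subgroup.IsComplement' (Subgroup.zpowers c) (MulAction.stabilizer T (1 : E)) := by
  have hci : ∀ (i : ℕ) (x : E), c ^ i • x = ζ ^ i * x := by
    intro i
    induction i with
    | zero => simp
    | succ i ih => intro x; rw [pow_succ', mul_smul, ih, hc, pow_succ', mul_assoc]
  refine Subgroup.isComplement'_of_disjoint_and_mul_eq_univ ?_ ?_
  · rw [Subgroup.disjoint_def]
    intro g hg hg1
    obtain ⟨i, rfl⟩ := (mem_powers_iff_mem_zpowers (x := c) (y := g)).2 hg
    simp only [MulAction.mem_stabilizer_iff, hci, mul_one] at hg1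
    exact orderOf_dvd_iff_pow_eq_one.1 (hn ▸ orderOf_dvd_of_pow_eq_one hg1)
  · refine Set.eq_univ_of_forall fun g => ?_
    obtain ⟨i, hi⟩ := horb g 1
    refine Set.mem_mul.2 ⟨c ^ i, Subgroup.pow_mem _ (Subgroup.mem_zpowers c) i, (c ^ i)⁻¹ * g, ?_,
      mul_inv_cancel_left _ _⟩
    rw [SetLike.mem_coe, MulAction.mem_stabilizer_iff, mul_smul, inv_smul_eq_iff, hci, hi]

/-- The cyclic case. -/
theorem isSolvable_cyclic {T E : Type*} [Group T] [Finite T] [Field E] [Finite E]
    [DistribMulAction T E] {q : ℕ} [Fact q.Prime] [CharP E q]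
    (hfaith : ∀ g : T, (∀ x : E, g • x = x) → g = 1)
    (hcop : ¬ q ∣ Nat.card T) {p : ℕ} [Fact p.Prime] (hp2 : p ≠ 2)
    (P : Sylow p T) (c : T) (hPc : (P : Subgroup T) = Subgroup.zpowers c)
    (ζ : E) (hc : ∀ x : E, c • x = ζ * x)
    (hgen : AddSubgroup.closure (Set.range fun i : ℕ => ζ ^ i) = ⊤)
    (horb : ∀ (g : T) (x : E), ∃ i : ℕ, g • x = ζ ^ i * x)
    (hprop : ∀ N : Subgroup T, N.Normal → N ≠ ⊤ → Group.IsSolvable N) :
    Group.IsSolvable T := by
  classical
  letI : Fintype E := Fintype.ofFinite E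
  letI : Fintype T := Fintype.ofFinite T
  letI : Algebra (ZMod q) E := ZMod.algebra E q
  have hp : p.Prime := Fact.out
  have hci : ∀ (i : ℕ) (x : E), c ^ i • x = ζ ^ i * x := by
    intro i
    induction i with
    | zero => simp
    | succ i ih => intro x; rw [pow_succ', mul_smul, ih, hc, pow_succ', mul_assoc]
  have hext : ∀ f g : E →+ E, (∀ i : ℕ, f (ζ ^ i) = g (ζ ^ i)) → f = g := fun f g h => by
    refine AddMonoidHom.eq_of_eqOn_dense hgen ?_
    rintro _ ⟨i, rfl⟩
    exact h i
  have hn' : orderOf ζ = orderOf c := by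
    refine Nat.dvd_antisymm (orderOf_dvd_of_pow_eq_one ?_) (orderOf_dvd_of_pow_eq_one ?_)
    · have := hci (orderOf c) 1
      rw [pow_orderOf_eq_one, one_smul, mul_one] at this
      exact this.symm
    · exact hfaith _ fun x => by rw [hci, pow_orderOf_eq_one, one_mul]
  obtain ⟨a, ha⟩ := P.isPGroup'.exists_card_eq
  rw [hPc, Nat.card_zpowers] at ha
  -- `P ≠ 1`
  by_cases ha0 : a = 0
  · rw [ha0, pow_zero] at ha
    have hT : ∀ g : T, g = 1 := fun g => hfaith g fun x => by
      obtain ⟨i, hi⟩ := horb g x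
      rw [hi, orderOf_eq_one_iff.1 (hn'.trans ha), one_pow, one_mul]
    exact Group.isSolvable_of_comm fun s t => by rw [hT s, hT t]
  have hpos : 0 < orderOf ζ := by rw [hn', ha]; exact pow_pos hp.pos a
  have hζ0 : ζ ≠ 0 := fun h => by
    rw [h] at hpos
    simp at hpos
  set S := MulAction.stabilizer T (1 : E) with hS
  have hcompl := index_eq_card_stab c ζ hc hn' horb
  have hScop : ¬ p ∣ Nat.card S := by
    have h1 : (P : Subgroup T).index = Nat.card S := by
      rw [hPc]
      exact hcompl.symm.index_eq_card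
    exact h1 ▸ P.not_dvd_index
  -- Burnside
  by_cases hNC : Subgroup.normalizer ((P : Subgroup T) : Set T) ≤
      Subgroup.centralizer ((P : Subgroup T) : Set T)
  · have hK := MonoidHom.ker_transferSylow_isComplement' P hNC
    refine isSolvable_of_normal_solvable (MonoidHom.transferSylow P hNC)
      (hprop _ inferInstance ?_) ?_
    · intro htop
      have h2 : (P : Subgroup T) = ⊥ := by
        have := hK.disjoint
        rwa [htop, top_disjoint] at this
      rw [hPc, Subgroup.zpowers_eq_bot, ← orderOf_eq_one_iff, ha, Nat.pow_eq_one] at h2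
      exact h2.elim hp.ne_one ha0
    · haveI : IsCyclic (P : Subgroup T) := by rw [hPc]; infer_instance
      exact Group.isSolvable_of_comm fun s t => IsCyclic.isMulCommutative.is_comm.comm s t
  obtain ⟨g₀, hg₀N, hg₀C⟩ := SetLike.not_le_iff_exists.1 hNC
  have hg₀c : g₀ * c * g₀⁻¹ ∈ Subgroup.zpowers c := by
    rw [← hPc]
    exact (Subgroup.mem_normalizer_iff.1 hg₀N c).1 (hPc ▸ Subgroup.mem_zpowers c)
  obtain ⟨j, hj⟩ := (mem_powers_iff_mem_zpowers (x := c)).2 hg₀c
  simp only at hj
  have hne : g₀ * c * g₀⁻¹ ≠ c := by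
    intro h
    apply hg₀C
    rw [Subgroup.mem_centralizer_iff]
    intro y hy
    rw [SetLike.mem_coe, hPc] at hy
    obtain ⟨k, rfl⟩ := Subgroup.mem_zpowers_iff.1 hy
    exact (Commute.zpow_right (show Commute g₀ c from mul_inv_eq_iff_eq_mul.1 h) k).symm.eq
  obtain ⟨i₀, hi₀⟩ := horb g₀ 1
  set g₁ := (c ^ i₀)⁻¹ * g₀ with hg₁
  have hg₁1 : g₁ • (1 : E) = 1 := by rw [hg₁, mul_smul, inv_smul_eq_iff, hci, hi₀]
  have hg₁c : g₁ * c * g₁⁻¹ = c ^ j := by
    rw [hg₁, show (c ^ i₀)⁻¹ * g₀ * c * ((c ^ i₀)⁻¹ * g₀)⁻¹ =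
      (c ^ i₀)⁻¹ * (g₀ * c * g₀⁻¹) * c ^ i₀ by group, ← hj, mul_assoc,
      (Commute.pow_pow_self c j i₀).eq, inv_mul_cancel_left]
  have hg₁pow : ∀ i : ℕ, g₁ • (ζ ^ i) = (ζ ^ j) ^ i := by
    intro i
    have e : g₁ * c ^ i = c ^ (j * i) * g₁ := by
      rw [pow_mul, ← hg₁c, conj_pow, inv_mul_cancel_right]
    calc g₁ • (ζ ^ i) = (g₁ * c ^ i) • (1 : E) := by rw [mul_smul g₁ (c ^ i), hci, mul_one]
      _ = (ζ ^ j) ^ i := by rw [e, mul_smul, hg₁1, hci, mul_one, pow_mul]
  have hg₁mul : ∀ x y : E, g₁ • (x * y) = g₁ • x * g₁ • y := by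
    intro x y
    let f := DistribMulAction.toAddMonoidHom E g₁
    have h1 : ∀ (i : ℕ) (y : E), f (ζ ^ i * y) = (ζ ^ j) ^ i * f y := by
      intro i
      have := hext (f.comp (AddMonoidHom.mulLeft (ζ ^ i)))
        ((AddMonoidHom.mulLeft ((ζ ^ j) ^ i)).comp f) (fun k => by
          simp [f, ← pow_add, hg₁pow])
      exact fun y => DFunLike.congr_fun this y
    have h2 : f.comp (AddMonoidHom.mulRight y) = (AddMonoidHom.mulRight (f y)).comp f :=
      hext _ _ fun i => by
        show f (ζ ^ i * y) = f (ζ ^ i) * f y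
        rw [h1]
        congr 1
        exact (hg₁pow i).symm
    exact DFunLike.congr_fun h2 x
  -- automorphisms from elements of the stabiliser
  let N : Subgroup T :=
    { carrier := {g | g • (1 : E) = 1 ∧ ∀ x y : E, g • (x * y) = g • x * g • y}
      one_mem' := by simp
      mul_mem' := fun {u v} hu hv => ⟨by rw [mul_smul, hv.1, hu.1], fun x y => by
        simp only [mul_smul, hv.2, hu.2]⟩
      inv_mem' := fun {u} hu => ⟨by rw [inv_smul_eq_iff, hu.1], fun x y => by
        rw [inv_smul_eq_iff, hu.2, smul_inv_smul, smul_inv_smul]⟩ }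
  have hg₁N : g₁ ∈ N := ⟨hg₁1, hg₁mul⟩
  have hg₁ne : g₁ ≠ 1 := by
    intro h
    apply hne
    rw [← hj, ← hg₁c, h, one_mul, inv_one, mul_one]
  obtain ⟨d, hd, hdm⟩ := Nat.exists_prime_and_dvd
    (fun h => hg₁ne (orderOf_eq_one_iff.1 h) : orderOf g₁ ≠ 1)
  set h := g₁ ^ (orderOf g₁ / d) with hh
  have hhN : h ∈ N := pow_mem hg₁N _
  have hhd : orderOf h = d := orderOf_pow_orderOf_div (orderOf_pos g₁).ne' hdm
  have hhS : h ∈ S := hhN.1
  have hdp : d ≠ p := by
    intro e
    apply hScop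
    rw [← e, ← hhd]
    exact (Subgroup.orderOf_mk h hhS) ▸ orderOf_dvd_natCard (⟨h, hhS⟩ : S)
  have hdq : d ≠ q := fun e => hcop (e ▸ hhd ▸ orderOf_dvd_natCard h)
  let σR : E ≃+* E :=
    { DistribMulAction.toAddEquiv E h with
      map_mul' := hhN.2 }
  let σ : E ≃ₐ[ZMod q] E := AlgEquiv.ofRingEquiv (f := σR) (fun r =>
    DFunLike.congr_fun (Subsingleton.elim ((σR : E →+* E).comp (algebraMap (ZMod q) E))
      (algebraMap (ZMod q) E)) r)
  have hσ : ∀ (k : ℕ) (x : E), (σ ^ k) x = h ^ k • x := by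
    intro k
    induction k with
    | zero => simp
    | succ k ih => intro x; rw [pow_succ', AlgEquiv.mul_apply, ih, pow_succ', mul_smul]; rfl
  have hσd : orderOf σ = d := by
    rw [← hhd]
    refine Nat.dvd_antisymm (orderOf_dvd_of_pow_eq_one (AlgEquiv.ext fun x => ?_))
      (orderOf_dvd_of_pow_eq_one (hfaith _ fun x => ?_))
    · rw [hσ, pow_orderOf_eq_one, one_smul, AlgEquiv.one_apply]
    · rw [← hσ, pow_orderOf_eq_one, AlgEquiv.one_apply]
  -- the fixed field
  let F := IntermediateField.fixedField (Subgroup.zpowers σ)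
  have hEF : Module.finrank F E = d := by
    rw [IntermediateField.finrank_fixedField_eq_card, Nat.card_zpowers, hσd]
  set f := Module.finrank (ZMod q) F with hf
  have hf1 : 1 ≤ f := Module.finrank_pos
  have hFcard : Nat.card F = q ^ f := by
    rw [Module.natCard_eq_pow_finrank (K := ZMod q), Nat.card_zmod]
  have hEcard : Nat.card E = (q ^ f) ^ d := by
    rw [Module.natCard_eq_pow_finrank (K := F), hFcard, hEF]
  have hfin : Module.finrank (ZMod q) E = d * f := by
    rw [← Module.finrank_mul_finrank (ZMod q) F E, hEF, hf, mul_comm]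
  set Q := q ^ f with hQdef
  have hQ2 : 2 ≤ Q := le_trans (Fact.out : q.Prime).two_le (Nat.le_self_pow (by omega) q)
  have hd2 := hd.two_le
  -- the norm-one elements
  let ν : Eˣ →* Eˣ :=
    { toFun := fun x => Units.map (σ : E →* E) x * x⁻¹
      map_one' := by simp
      map_mul' := fun x y => by
        rw [map_mul, mul_inv, mul_mul_mul_comm] }
  have hνapp : ∀ x : Eˣ, (ν x : E) = σ (x : E) * (x : E)⁻¹ := fun x => by simp [ν]
  have hker : Nat.card ν.ker = Q - 1 := by
    rw [show Q - 1 = Nat.card Fˣ by rw [Nat.card_units, hFcard]]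
    refine Nat.card_congr (Equiv.ofBijective (fun y => ?_) ⟨?_, ?_⟩)
    · refine Units.mk0 ⟨(y : Eˣ), ?_⟩ (fun e => (y : Eˣ).ne_zero (congrArg Subtype.val e))
      rw [IntermediateField.mem_fixedField_iff]
      intro τ hτ
      obtain ⟨k, rfl⟩ := (mem_powers_iff_mem_zpowers (x := σ)).2 hτ
      have hy : σ ((y : Eˣ) : E) = ((y : Eˣ) : E) := by
        have := congrArg (fun u : Eˣ => (u : E)) (MonoidHom.mem_ker.1 y.2)
        simp only [hνapp, Units.val_one] at this
        rwa [mul_inv_eq_one₀ (Units.ne_zero _)] at this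
      induction k with
      | zero => simp
      | succ k ih =>
        simp only [pow_succ', AlgEquiv.mul_apply] at ih ⊢
        rw [ih (pow_mem (Subgroup.mem_zpowers σ) k), hy]
    · intro u v huv
      have := congrArg (fun w : Fˣ => ((w : F) : E)) huv
      exact Subtype.ext (Units.ext this)
    · intro u
      refine ⟨⟨Units.mk0 ((u : F) : E) (fun e => u.ne_zero (Subtype.ext e)), ?_⟩, ?_⟩
      · rw [MonoidHom.mem_ker]
        ext
        have h1 := (IntermediateField.mem_fixedField_iff _ _).1 (u : F).2 σ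
          (Subgroup.mem_zpowers σ)
        rw [hνapp, Units.val_mk0, Units.val_one, h1]
        exact mul_inv_cancel₀ (fun e => u.ne_zero (Subtype.ext e))
      · exact Units.ext (Subtype.ext rfl)
  set ζu : Eˣ := Units.mk0 ζ hζ0 with hζu
  have hrange : ν.range ≤ Subgroup.zpowers ζu := by
    rintro _ ⟨x, rfl⟩
    obtain ⟨i, hi⟩ := horb h x
    have : ν x = ζu ^ i := by
      ext
      rw [hνapp, Units.val_pow_eq_pow_val, Units.val_mk0, show σ (x : E) = h • (x : E) from rfl,
        hi, mul_inv_cancel_right₀ x.ne_zero]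
    rw [this]
    exact pow_mem (Subgroup.mem_zpowers ζu) i
  have hζu_ord : orderOf ζu = p ^ a := by
    rw [← orderOf_units, Units.val_mk0, hn', ha]
  obtain ⟨b, hb, hνcard⟩ := (Nat.dvd_prime_pow hp).1
    (show Nat.card ν.range ∣ p ^ a by
      rw [← hζu_ord, ← Nat.card_zpowers]; exact Subgroup.card_dvd_of_le hrange)
  have hmul : p ^ b * (Q - 1) = Q ^ d - 1 := by
    rw [← hνcard, ← hker, ← Subgroup.index_ker, Subgroup.index_mul_card, Nat.card_units,
      hEcard]
  have hgeom : p ^ b = ∑ i ∈ Finset.range d, Q ^ i := by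
    have hz : (p ^ b : ℤ) * ((Q : ℤ) - 1) = (∑ i ∈ Finset.range d, (Q : ℤ) ^ i) * ((Q : ℤ) - 1) := by
      rw [geom_sum_mul]
      have h1 : 1 ≤ Q ^ d := Nat.one_le_pow _ _ (by omega)
      have := congrArg (fun m : ℕ => (m : ℤ)) hmul
      simpa [Nat.cast_sub (by omega : 1 ≤ Q), Nat.cast_sub h1] using this
    have := mul_right_cancel₀ (show ((Q : ℤ) - 1) ≠ 0 by omega) hz
    exact_mod_cast this
  have hpQ : ¬ p ∣ Q - 1 := by
    intro hdvd
    have hb0 : b ≠ 0 := by
      rintro rfl
      have := OrbitBound.pow_lt_sum (Q := Q) hd2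
      rw [← hgeom, pow_zero] at this
      have : 1 ≤ Q ^ (d - 1) := Nat.one_le_pow _ _ (by omega)
      omega
    have h2 : ((∑ i ∈ Finset.range d, Q ^ i : ℕ) : ZMod p) = 0 := by
      rw [← hgeom]
      simp [hb0]
    have h3 : (Q : ZMod p) = 1 := by
      have := (ZMod.natCast_eq_zero_iff (Q - 1) p).2 hdvd
      rw [Nat.cast_sub (by omega), Nat.cast_one] at this
      exact sub_eq_zero.1 this
    rw [Nat.cast_sum] at h2
    simp only [Nat.cast_pow, h3, one_pow, Finset.sum_const, Finset.card_range, nsmul_one] at h2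
    exact hdp ((Nat.prime_dvd_prime_iff_eq hp hd).1 ((ZMod.natCast_eq_zero_iff d p).1 h2)).symm
  have hab : p ^ a = ∑ i ∈ Finset.range d, Q ^ i := by
    rw [← hgeom]
    refine Nat.dvd_antisymm ?_ (Nat.pow_dvd_pow p hb)
    refine Nat.Coprime.dvd_of_dvd_mul_right (Nat.Coprime.pow_left a
      (hp.coprime_iff_not_dvd.2 hpQ)) ?_
    rw [hmul, ← hEcard, ← Nat.card_units, ← hζu_ord]
    exact orderOf_dvd_natCard ζu
  have hd3 : 3 ≤ d := by
    by_contra hlt
    obtain rfl : d = 2 := by omega
    have hodd : Odd (p ^ a) := (hp.odd_of_ne_two hp2).pow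
    rw [hab, Finset.sum_range_succ, Finset.sum_range_succ, Finset.sum_range_zero] at hodd
    have hQe : Even Q := by
      simp only [zero_add, pow_zero, pow_one] at hodd
      rcases Nat.even_or_odd Q with h1 | h1
      · exact h1
      · exact absurd (Odd.add_odd odd_one h1) (Nat.not_even_iff_odd.2 hodd)
    have hq2 : q = 2 := ((Fact.out : q.Prime).eq_two_or_odd').resolve_right fun ho =>
      Nat.not_even_iff_odd.2 ho.pow hQe
    exact hdq hq2.symm
  obtain ⟨hbd1, hbd2⟩ := OrbitBound.bound (Fact.out : q.Prime) hd hd3 hf1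
    (by rw [← hQdef, ← hab]; exact hp.isPrimePow.pow ha0)
  rw [← hQdef, ← hab] at hbd1 hbd2
  -- no nontrivial solvable normal subgroup
  by_cases hsimp : ∀ M : Subgroup T, M.Normal → M = ⊥ ∨ M = ⊤
  swap
  · push_neg at hsimp
    obtain ⟨M, hMn, hM0, hM1⟩ := hsimp
    haveI := hMn
    obtain ⟨A, r, hAn, hAM, hA0, hAc, hr, hAr, hAe⟩ :=
      H19.exists_normal_elementary_le M (hprop M hMn hM1) hM0
    haveI := hAn
    haveI : Fact r.Prime := ⟨hr⟩
    by_cases hrp : r = p
    swap
    · exfalso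
      apply hA0
      rw [eq_bot_iff]
      intro x hx
      rw [Subgroup.mem_bot]
      refine hfaith x fun w => ?_
      obtain ⟨k, hk⟩ := hAr.index ((MulAction.stabilizer T w).subgroupOf A)
      have hdvd : r ^ k ∣ (MulAction.stabilizer T w).index :=
        hk ▸ relIndex_dvd_index_normal (MulAction.stabilizer T w) A
      have hidx : (MulAction.stabilizer T w).index ∣ p ^ a := by
        by_cases hw : w = 0
        · subst hw
          rw [(Subgroup.index_eq_one).2 (eq_top_iff.2 fun g _ => MulAction.mem_stabilizer_iff.2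
            (smul_zero g))]
          exact one_dvd _
        · rw [MulAction.index_stabilizer, ← ha, ← hn']
          have horb' : MulAction.orbit T w = (fun y => y * w) '' (Set.range fun i : ℕ => ζ ^ i) := by
            ext y
            simp only [MulAction.mem_orbit_iff, Set.mem_image, Set.mem_range, exists_exists_eq_and]
            exact ⟨fun ⟨g, hg⟩ => (horb g w).imp fun i hi => hi.symm.trans hg,
              fun ⟨i, hi⟩ => ⟨c ^ i, by rw [hci, hi]⟩⟩
          rw [horb', Set.ncard_image_of_injective _ (mul_left_injective₀ hw),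
            ← Units.val_mk0 hζ0, orderOf_units, ← Nat.card_zpowers, ← SetLike.coe_sort_coe,
            Nat.card_coe_set_eq, ← Set.ncard_image_of_injective _ Units.val_injective]
          refine dvd_of_eq (congrArg Set.ncard ?_)
          ext y
          simp only [Set.mem_image, SetLike.mem_coe, ← mem_powers_iff_mem_zpowers, Set.mem_range]
          constructor
          · rintro ⟨i, rfl⟩; exact ⟨_, ⟨i, rfl⟩, by simp⟩
          · rintro ⟨u, ⟨i, rfl⟩, rfl⟩; exact ⟨i, by simp⟩
      have h1 : r ^ k = 1 := Nat.eq_one_of_dvd_coprimes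
        ((((Nat.coprime_primes hr hp).2 hrp).pow k a)) dvd_rfl (hdvd.trans hidx)
      have hle : A ≤ MulAction.stabilizer T w := Subgroup.relIndex_eq_one.1 (hk.trans h1)
      exact hle hx
    · subst hrp
      have hAP : A ≤ Subgroup.zpowers c := by
        obtain ⟨P', hP'⟩ := hAr.exists_le_sylow
        obtain ⟨g, hg⟩ := MulAction.exists_smul_eq T P' P
        intro x hx
        rw [← hPc, ← hg, Sylow.coe_subgroup_smul, Subgroup.mem_pointwise_smul_iff_inv_smul_mem,
          MulAut.smul_def, MulAut.conj_inv_apply]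
        exact hP' (by simpa using hAn.conj_mem x hx g⁻¹)
      have hAcyc : IsCyclic A := isCyclic_of_injective _ (Subgroup.inclusion_injective hAP)
      by_cases hCt : Subgroup.centralizer (A : Set T) = ⊤
      swap
      · exact isSolvable_of_centralizer_cyclic A hAcyc (hprop _ inferInstance hCt)
      exfalso
      obtain ⟨z, hzA, hz1⟩ := (Subgroup.bot_or_exists_ne_one A).resolve_left hA0
      obtain ⟨k, hk⟩ := (mem_powers_iff_mem_zpowers (x := c)).2 (hAP hzA)
      simp only at hk
      have hcomm : z * h = h * z :=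
        (Subgroup.mem_centralizer_iff.1 (hCt ▸ Subgroup.mem_top h)) z hzA
      have hfix : σ (ζ ^ k) = ζ ^ k := by
        show h • (ζ ^ k) = ζ ^ k
        calc h • (ζ ^ k) = h • z • (1 : E) := by rw [← hk, hci, mul_one]
          _ = z • h • (1 : E) := by rw [← mul_smul, ← hcomm, mul_smul]
          _ = ζ ^ k := by rw [hhN.1, ← hk, hci, mul_one]
      have hmem : ζ ^ k ∈ F := by
        rw [IntermediateField.mem_fixedField_iff]
        intro τ hτ
        obtain ⟨i, rfl⟩ := (mem_powers_iff_mem_zpowers (x := σ)).2 hτ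
        induction i with
        | zero => simp
        | succ i ih =>
          simp only [pow_succ', AlgEquiv.mul_apply] at ih ⊢
          rw [ih (pow_mem (Subgroup.mem_zpowers σ) i), hfix]
      have hne1 : ζ ^ k ≠ 1 := fun e => hz1 (hfaith z fun x => by rw [← hk, hci, e, one_mul])
      have hp1 : (ζ ^ k) ^ r = 1 := by
        have e := hAe z hzA
        rw [← hk, ← pow_mul] at e
        rw [← pow_mul]
        exact orderOf_dvd_iff_pow_eq_one.1 (hn' ▸ orderOf_dvd_of_pow_eq_one e)
      let u : Fˣ := Units.mk0 ⟨ζ ^ k, hmem⟩ (fun e => pow_ne_zero k hζ0 (congrArg Subtype.val e))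
      have hu : orderOf u = r := by
        refine orderOf_eq_prime ?_ ?_
        · exact Units.ext (Subtype.ext (by simpa [u] using hp1))
        · exact fun e => hne1 (congrArg (fun v : Fˣ => ((v : F) : E)) e)
      apply hpQ
      have := orderOf_dvd_natCard u
      rwa [hu, Nat.card_units, hFcard] at this
  -- the permutation model
  set n := p ^ a with hndef
  haveI : NeZero n := ⟨pow_ne_zero a hp.ne_zero⟩
  let ι : ZMod n → E := fun i => ζ ^ i.val
  have hιnat : ∀ i : ℕ, ι (i : ZMod n) = ζ ^ i := fun i => by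
    simp only [ι, ZMod.val_natCast]
    conv_rhs => rw [← pow_mod_orderOf, hn', ha]
  have hιinj : Function.Injective ι := fun i j hij =>
    ZMod.val_injective n (pow_injOn_Iio_orderOf (by simpa [hn', ha] using ZMod.val_lt i)
      (by simpa [hn', ha] using ZMod.val_lt j) hij)
  have hιadd : ∀ i j, ι (i + j) = ι i * ι j := fun i j => by
    rw [← ZMod.natCast_zmod_val i, ← ZMod.natCast_zmod_val j, ← Nat.cast_add, hιnat, hιnat, hιnat,
      pow_add]
  have hex : ∀ (g : T) (i : ZMod n), ∃ j, g • ι i = ι j := fun g i => by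
    obtain ⟨k, hk⟩ := horb g (ι i)
    exact ⟨(k : ZMod n) + i, by rw [hk, hιadd, hιnat]⟩
  choose π hπ using hex
  have hπ_mul : ∀ g g' i, π (g * g') i = π g (π g' i) := fun g g' i =>
    hιinj (by rw [← hπ, ← hπ, ← hπ, mul_smul])
  have hπ_one : ∀ i, π 1 i = i := fun i => hιinj (by rw [← hπ, one_smul])
  let φ : T →* Equiv.Perm (ZMod n) :=
    { toFun := fun g =>
        { toFun := π g
          invFun := π g⁻¹
          left_inv := fun i => by rw [← hπ_mul, inv_mul_cancel, hπ_one]
          right_inv := fun i => by rw [← hπ_mul, mul_inv_cancel, hπ_one] }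
      map_one' := Equiv.ext hπ_one
      map_mul' := fun g g' => Equiv.ext fun i => hπ_mul g g' i }
  have hφ : ∀ g i, ι (φ g i) = g • ι i := fun g i => (hπ g i).symm
  have htr : ∀ t : ZMod n, ∃ g, ∀ x, φ g x = x + t := fun t =>
    ⟨c ^ t.val, fun x => hιinj (by rw [hφ, hci, hιadd, mul_comm])⟩
  have hφinj : ∀ g, φ g = 1 → g = 1 := fun g hg => hfaith g fun x => by
    have := hext (DistribMulAction.toAddMonoidHom E g) (AddMonoidHom.id E) fun i => by
      show g • ζ ^ i = ζ ^ i
      rw [← hιnat, ← hφ, hg, Equiv.Perm.one_apply]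
    exact DFunLike.congr_fun this x
  -- an invariant functional
  obtain ⟨ψ, hψ⟩ := Submodule.exists_dual_map_eq_bot_of_notMem
    (p := (⊥ : Submodule (ZMod q) E)) (x := (1 : E)) (by simp) inferInstance
  let Φ : E →ₗ[ZMod q] ZMod q :=
    ∑ g : S, ψ.comp ((DistribMulAction.toAddMonoidHom E (g : T)).toZModLinearMap q)
  have hΦapp : ∀ x, Φ x = ∑ g : S, ψ ((g : T) • x) := fun x => by
    simp [Φ, LinearMap.sum_apply]
  have hΦ1 : Φ 1 ≠ 0 := by
    rw [hΦapp, Finset.sum_congr rfl (fun g _ => by rw [show ((g : T) • (1 : E)) = 1 from g.2]),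
      Finset.sum_const, Finset.card_univ, nsmul_eq_mul]
    refine mul_ne_zero (fun e => hcop (dvd_trans ((ZMod.natCast_eq_zero_iff _ q).1 e) ?_)) hψ.1
    rw [← Nat.card_eq_fintype_card]
    exact Subgroup.card_subgroup_dvd_card S
  let ε : ZMod n → ZMod q := fun i => Φ (ι i)
  have hι0 : ι 0 = 1 := by simp [ι]
  have hεstab : ∀ g ∈ S, ∀ i, ε (φ g i) = ε i := fun g hg i => by
    show Φ (ι (φ g i)) = Φ (ι i)
    rw [hΦapp, hΦapp, hφ]
    exact Fintype.sum_equiv (Equiv.mulRight (⟨g, hg⟩ : S)) _ _ fun u => by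
      simp [mul_smul]
  have hεinv : OrbitPerm.IsInvFun φ ε := by
    intro g x y
    obtain ⟨s, hs⟩ := htr x
    obtain ⟨t, ht⟩ := htr (-φ g x)
    have h0 : φ (t * g * s) 0 = 0 := by simp [Equiv.Perm.mul_apply, hs, ht]
    have hmemS : t * g * s ∈ S := by
      rw [hS, MulAction.mem_stabilizer_iff, ← hι0, ← hφ, h0]
    have := hεstab _ hmemS (y - x)
    simpa [Equiv.Perm.mul_apply, hs, ht, sub_eq_add_neg] using this
  have hgenaut : ∀ (u : E), AddSubgroup.closure (Set.range fun i : ℕ => u ^ i) = ⊤ →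
      ∀ σ τ : E ≃ₐ[ZMod q] E, σ u = τ u → σ = τ := by
    intro u hu σ τ e
    refine AlgEquiv.ext fun x => DFunLike.congr_fun (AddMonoidHom.eq_of_eqOn_dense hu
      (f := (σ : E →+ E)) (g := (τ : E →+ E)) ?_) x
    rintro _ ⟨i, rfl⟩
    show σ (u ^ i) = τ (u ^ i)
    rw [map_pow, map_pow, e]
  -- multipliers give automorphisms
  have haut : ∀ m : ZMod n, m.val.Coprime n → (∀ i, ε (m * i) = ε i) →
      ∃ τ : E ≃ₐ[ZMod q] E, τ ζ = ι m := by
    intro m hm hεm
    obtain ⟨v, hv⟩ := (ZMod.isUnit_iff_coprime m.val n).2 hm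
    have hgen' : AddSubgroup.closure (Set.range fun i : ℕ => (ζ ^ m.val) ^ i) = ⊤ := by
      rw [eq_top_iff, ← hgen, AddSubgroup.closure_le]
      rintro _ ⟨i, rfl⟩
      refine AddSubgroup.subset_closure ⟨(((v⁻¹ : (ZMod n)ˣ) : ZMod n) * i).val, ?_⟩
      show (ζ ^ m.val) ^ _ = ζ ^ i
      rw [← pow_mul, ← hιnat, ← hιnat, Nat.cast_mul, ZMod.natCast_zmod_val (_ * (i : ZMod n)),
        ← hv, Units.mul_inv_cancel_left]
    obtain ⟨τ, hτ⟩ := exists_aut_of_functional ζ (hgenaut ζ hgen) Φ hΦ1 m.val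
      (hgenaut _ hgen') (fun i => by
        have := hεm (i : ZMod n)
        show Φ ((ζ ^ m.val) ^ i) = Φ (ζ ^ i)
        rw [← pow_mul, ← hιnat, ← hιnat, Nat.cast_mul, ZMod.natCast_zmod_val]
        exact this)
    exact ⟨τ, hτ⟩
  have hcount : ∀ M : Finset (ZMod n),
      (∀ m ∈ M, m.val.Coprime n ∧ ∀ i, ε (m * i) = ε i) → M.card ≤ d * f := by
    intro M hM
    choose τ hτ using fun m : M => haut m.1 (hM m.1 m.2).1 (hM m.1 m.2).2
    calc M.card = Nat.card M := (Nat.card_eq_finsetCard M).symm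
      _ ≤ Nat.card (E ≃ₐ[ZMod q] E) := Nat.card_le_card_of_injective τ fun m m' e =>
          Subtype.ext (hιinj (by rw [← hτ m, ← hτ m', e]))
      _ = d * f := by rw [IsGalois.card_aut_eq_finrank, hfin]
  by_cases ha2 : 2 ≤ a
  · -- `p ^ (a - 1)` multipliers
    exfalso
    have hpp : p ^ (a - 1) * p = n := by rw [hndef, ← pow_succ, Nat.sub_add_cancel (by omega)]
    have hlt : ∀ k < p ^ (a - 1), 1 + p * k < n := fun k hk => by
      have h2 := hp.two_le
      calc 1 + p * k < p + p * k := by omega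
        _ = p * (k + 1) := by ring
        _ ≤ p * p ^ (a - 1) := Nat.mul_le_mul_left p hk
        _ = n := by rw [mul_comm, hpp]
    let M : Finset (ZMod n) :=
      (Finset.range (p ^ (a - 1))).image fun k => ((1 + p * k : ℕ) : ZMod n)
    have hMcard : M.card = p ^ (a - 1) := by
      rw [Finset.card_image_of_injOn, Finset.card_range]
      intro k hk k' hk' e
      have := congrArg ZMod.val e
      simp only [ZMod.val_cast_of_lt (hlt k (Finset.mem_range.1 hk)),
        ZMod.val_cast_of_lt (hlt k' (Finset.mem_range.1 hk'))] at this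
      exact Nat.eq_of_mul_eq_mul_left hp.pos (by omega)
    have hle := hcount M fun m hm => by
      obtain ⟨k, hk, rfl⟩ := Finset.mem_image.1 hm
      have hmod : 1 + p * k ≡ 1 [MOD p] := by simp [Nat.ModEq]
      refine ⟨?_, fun i => OrbitPerm.invFun_mul_congr_one htr hsimp hndef ha2 hεinv _ hmod i⟩
      rw [ZMod.val_cast_of_lt (hlt k (Finset.mem_range.1 hk)), hndef]
      refine Nat.Coprime.pow_right a (Nat.coprime_comm.1 (hp.coprime_iff_not_dvd.2 fun hdv => ?_))
      exact hp.not_dvd_one ((Nat.dvd_add_left (dvd_mul_right p k)).1 hdv)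
    rw [hMcard] at hle
    rcases hbd2 with hlt2 | hpr
    · have h1 : p ^ a ≤ (p ^ (a - 1)) ^ 2 := by
        rw [← pow_mul]
        exact Nat.pow_le_pow_right hp.pos (by omega)
      have h2 := Nat.pow_le_pow_left hle 2
      omega
    · exact absurd hpr (Nat.Prime.not_prime_pow ha2)
  · -- prime degree
    obtain rfl : a = 1 := by omega
    have hnp : n = p := by rw [hndef, pow_one]
    clear_value n
    subst hnp
    let M : Finset (ZMod n) := (Set.toFinite (OrbitPerm.suborbit φ 1)).toFinset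
    have hle := hcount M fun m hm => by
      simp only [M, Set.Finite.mem_toFinset] at hm
      refine ⟨?_, fun i => OrbitPerm.invFun_mul_suborbit htr hεinv hm i⟩
      refine Nat.coprime_comm.1 (hp.coprime_iff_not_dvd.2 fun hdv => ?_)
      have h0 : m.val = 0 := Nat.eq_zero_of_dvd_of_lt hdv (ZMod.val_lt m)
      exact OrbitPerm.zero_not_mem_suborbit_one ((ZMod.val_eq_zero m).1 h0 ▸ hm)
    have hMk : M.card = (OrbitPerm.suborbit φ 1).ncard :=
      (Set.ncard_eq_toFinset_card _ (Set.toFinite _)).symm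
    rw [hMk] at hle
    have hφh : φ h 0 = 0 := hιinj (by rw [hφ, hι0, hhN.1])
    have hι1 : ι 1 = ζ := by
      have := hιnat 1
      rwa [Nat.cast_one, pow_one] at this
    have hmove : φ h 1 ≠ 1 := by
      intro e
      have h1 : h • ζ = ζ := by rw [← hι1, ← hφ, e]
      have h2 : σ = 1 := hgenaut ζ hgen σ 1 h1
      rw [h2, orderOf_one] at hσd
      exact hd.ne_one hσd.symm
    have hk2 : 2 ≤ (OrbitPerm.suborbit φ 1).ncard :=
      (Set.one_lt_ncard (Set.toFinite _)).2
        ⟨1, OrbitPerm.mem_suborbit_self 1, φ h 1, ⟨h, hφh, rfl⟩, fun e => hmove e.symm⟩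
    have hsmall : ((OrbitPerm.suborbit φ 1).ncard - 1) ^ 2 < n := by
      refine lt_of_le_of_lt (Nat.pow_le_pow_left (Nat.sub_le_sub_right hle 1) 2) ?_
      simpa using hbd1
    have haff : ∀ g, ∃ c' d', ∀ x, φ g x = c' * x + d' := fun g =>
      OrbitPerm.affine_of_small htr rfl hk2 hsmall g
    choose A D hAD using haff
    have hA0' : ∀ g, A g = φ g 1 - φ g 0 := fun g => by simp [hAD]
    have hAmul : ∀ g g', A (g * g') = A g * A g' := fun g g' => by
      rw [hA0', map_mul, Equiv.Perm.mul_apply, Equiv.Perm.mul_apply, hAD g, hAD g, hAD g', hAD g']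
      ring
    let α : T →* ZMod n :=
      { toFun := A, map_one' := by simp [hA0'], map_mul' := hAmul }
    refine isSolvable_of_normal_solvable α.toHomUnits
      (Group.isSolvable_of_comm fun s t => ?_) inferInstance
    have hA1 : ∀ s : α.toHomUnits.ker, A s.1 = 1 := fun s =>
      congrArg (fun u : (ZMod n)ˣ => (u : ZMod n)) (MonoidHom.mem_ker.1 s.2)
    refine Subtype.ext (mul_inv_eq_one.1 (hφinj _ (Equiv.ext fun x => ?_)))
    have hadd : ∀ (u : α.toHomUnits.ker) (y : ZMod n), φ u.1 y = y + D u.1 := fun u y => by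
      rw [hAD, hA1, one_mul]
    simp only [Subgroup.coe_mul, map_mul, map_inv, Equiv.Perm.mul_apply, Equiv.Perm.one_apply]
    have h1 : ((φ t.1 * φ s.1)⁻¹ : Equiv.Perm (ZMod n)) x = x - D s.1 - D t.1 := by
      rw [Equiv.Perm.inv_eq_iff_eq, Equiv.Perm.mul_apply, hadd, hadd]
      abel
    rw [h1, hadd, hadd]
    abel

end Cfsg.Agent.H32.OrbitCyclic
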